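import Mathlib
import Cfsg.Agent.H16.CertArr

/-!
# A two-group given as an extension of an elementary abelian group by a polycyclic series

`E` is spanned by `e 0, …, e (r-1)`, and `u 0, …, u (m-1)` build the series above it.
Vectors of `E` and normal forms of the quotient are numbers read bit by bit.
-/

set_option autoImplicit false

namespace Cfsg.Agent.H55.Fi23T

open Cfsg.Agent.H16 (forceNat forceNat_eq)

variable {G : Type*} [Group G]

/-- `f 0 ^ b₀ * … * f (n-1) ^ b_{n-1}` for the bits of `v`. -/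
def prodW (f : ℕ → G) : ℕ → ℕ → G
  | 0, _ => 1
  | n + 1, v => if v.testBit n then prodW f n v * f n else prodW f n v

/-- the linear map with rows `r` -/
noncomputable def appM (r : ℕ → ℕ) : ℕ → ℕ → ℕ
  | 0, _ => 0
  | n + 1, v => forceNat (appM r n v) fun a => if v.testBit n then Nat.xor a (r n) else a

/-- the action of the normal form `k` on a vector, the `u`'s acting by the matrices `c` -/
noncomputable def act (c : ℕ → ℕ → ℕ) (r : ℕ) : ℕ → ℕ → ℕ → ℕ
  | 0, _, w => w
  | n + 1, k, w => forceNat w fun w =>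
    if k.testBit n then forceNat (appM (c n) r w) fun x => act c r n k x else act c r n k w

theorem prodW_congr (f : ℕ → G) : ∀ (n v w : ℕ),
    (∀ i < n, v.testBit i = w.testBit i) → prodW f n v = prodW f n w
  | 0, _, _, _ => rfl
  | n + 1, v, w, h => by
    rw [prodW, prodW, h n (Nat.lt_succ_self n),
      prodW_congr f n v w fun i hi => h i (Nat.lt_succ_of_lt hi)]

theorem prodW_zero (f : ℕ → G) : ∀ n, prodW f n 0 = 1
  | 0 => rfl
  | n + 1 => by simp [prodW, prodW_zero f n]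

theorem prodW_add (f : ℕ → G) (n k : ℕ) (hk : k < 2 ^ n) :
    prodW f (n + 1) (2 ^ n + k) = prodW f n k * f n := by
  rw [prodW, Nat.testBit_two_pow_add_eq, Nat.testBit_lt_two_pow hk]
  simp only [Bool.not_false, if_true]
  rw [prodW_congr f n (2 ^ n + k) k fun i hi => Nat.testBit_two_pow_add_gt hi k]

theorem prodW_low (f : ℕ → G) (n k : ℕ) (hk : k < 2 ^ n) :
    prodW f (n + 1) k = prodW f n k := by
  rw [prodW, Nat.testBit_lt_two_pow hk]; simp

theorem prodW_two_pow (f : ℕ → G) : ∀ {n i : ℕ}, i < n → prodW f n (2 ^ i) = f i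
  | n + 1, i, h => by
    rcases Nat.lt_succ_iff_lt_or_eq.mp h with h | h
    · rw [prodW_low f n _ (Nat.pow_lt_pow_right (by omega) h), prodW_two_pow f h]
    · subst h
      simpa [prodW_zero] using prodW_add f i 0 (by positivity)

/-- Data of the extension. -/
structure Ext (G : Type*) [Group G] where
  r : ℕ
  m : ℕ
  e : ℕ → G
  u : ℕ → G
  c : ℕ → ℕ → ℕ
  sqV : ℕ → ℕ
  sqK : ℕ → ℕ
  relV : ℕ → ℕ → ℕ
  relK : ℕ → ℕ → ℕ
  e_sq : ∀ i < r, e i * e i = 1
  e_comm : ∀ i < r, ∀ j < r, e i * e j = e j * e i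
  e_indep : ∀ v < 2 ^ r, prodW e r v = 1 → v = 0
  c_lt : ∀ n < m, ∀ i < r, c n i < 2 ^ r
  conj_e : ∀ n < m, ∀ i < r, u n * e i * (u n)⁻¹ = prodW e r (c n i)
  sq_lt : ∀ n < m, sqV n < 2 ^ r ∧ sqK n < 2 ^ n
  u_sq : ∀ n < m, u n * u n = prodW e r (sqV n) * prodW u n (sqK n)
  rel_lt : ∀ n < m, ∀ l < n, relV n l < 2 ^ r ∧ relK n l < 2 ^ n
  u_conj : ∀ n < m, ∀ l < n, u n * u l * (u n)⁻¹ = prodW e r (relV n l) * prodW u n (relK n l)
  /-- the series is strict -/
  new : ∀ n < m, ∀ k < 2 ^ n, ∃ i < r, act c r n k (2 ^ i) ≠ c n i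

namespace Ext

variable (D : Ext G)

/-- vector `v` as an element -/
def el (v : ℕ) : G := prodW D.e D.r v

theorem e_prodW (i : ℕ) (hi : i < D.r) : ∀ (n : ℕ), n ≤ D.r → ∀ v,
    D.e i * prodW D.e n v = prodW D.e n v * D.e i
  | 0, _, v => by simp [prodW]
  | n + 1, hn, v => by
    rw [prodW]
    split
    · rw [← mul_assoc, e_prodW i hi n (by omega) v, mul_assoc, D.e_comm i hi n (by omega),
        mul_assoc]
    · exact e_prodW i hi n (by omega) v

theorem prodW_mul : ∀ (n : ℕ), n ≤ D.r → ∀ v w,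
    prodW D.e n v * prodW D.e n w = prodW D.e n (v ^^^ w)
  | 0, _, v, w => by simp [prodW]
  | n + 1, hn, v, w => by
    have ih := prodW_mul n (by omega) v w
    have hc := D.e_prodW n (by omega) n (by omega) w
    simp only [prodW, Nat.testBit_xor]
    cases v.testBit n <;> cases w.testBit n <;> simp
    · exact ih
    · rw [← mul_assoc, ih]
    · rw [mul_assoc, hc, ← mul_assoc, ih]
    · rw [mul_assoc, ← mul_assoc (D.e n), hc, mul_assoc (prodW D.e n w),
        D.e_sq n (by omega), mul_one, ih]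

theorem el_mul (v w : ℕ) : D.el v * D.el w = D.el (v ^^^ w) := D.prodW_mul D.r le_rfl v w

theorem el_zero : D.el 0 = 1 := prodW_zero _ _

theorem el_self (v : ℕ) : D.el v * D.el v = 1 := by rw [el_mul, Nat.xor_self, el_zero]

theorem el_inv (v : ℕ) : (D.el v)⁻¹ = D.el v := inv_eq_of_mul_eq_one_right (D.el_self v)

theorem el_comm (v w : ℕ) : D.el v * D.el w = D.el w * D.el v := by
  rw [el_mul, el_mul, Nat.xor_comm]

theorem el_inj {v w : ℕ} (hv : v < 2 ^ D.r) (hw : w < 2 ^ D.r) (h : D.el v = D.el w) : v = w := by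
  have h1 : D.el (v ^^^ w) = 1 := by rw [← el_mul, h, el_self]
  exact Nat.xor_eq_zero_iff.mp (D.e_indep _ (Nat.xor_lt_two_pow hv hw) h1)

theorem el_two_pow {i : ℕ} (hi : i < D.r) : D.el (2 ^ i) = D.e i := prodW_two_pow _ hi

/-- the elementary abelian bottom -/
def E : Subgroup G where
  carrier := {g | ∃ v < 2 ^ D.r, D.el v = g}
  one_mem' := ⟨0, by positivity, D.el_zero⟩
  mul_mem' := by
    rintro a b ⟨v, hv, rfl⟩ ⟨w, hw, rfl⟩
    exact ⟨v ^^^ w, Nat.xor_lt_two_pow hv hw, (D.el_mul v w).symm⟩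
  inv_mem' := by rintro a ⟨v, hv, rfl⟩; exact ⟨v, hv, (D.el_inv v).symm⟩

theorem el_mem {v : ℕ} (hv : v < 2 ^ D.r) : D.el v ∈ D.E := ⟨v, hv, rfl⟩

theorem e_mem {i : ℕ} (hi : i < D.r) : D.e i ∈ D.E :=
  D.el_two_pow hi ▸ D.el_mem (Nat.pow_lt_pow_right (by omega) hi)

theorem card_E : Nat.card D.E = 2 ^ D.r := by
  have hb : Function.Bijective (fun v : Fin (2 ^ D.r) => (⟨D.el v, D.el_mem v.2⟩ : D.E)) := by
    refine ⟨fun a b h => Fin.ext (D.el_inj a.2 b.2 (congrArg Subtype.val h)), fun g => ?_⟩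
    obtain ⟨v, hv, hg⟩ := g.2
    exact ⟨⟨v, hv⟩, Subtype.ext hg⟩
  rw [← Nat.card_eq_of_bijective _ hb, Nat.card_fin]

/-- an element acting on the basis by the rows `ρ` acts by `appM ρ` -/
theorem conj_el {g : G} {ρ : ℕ → ℕ} (h : ∀ i < D.r, g * D.e i * g⁻¹ = D.el (ρ i)) :
    ∀ (n : ℕ), n ≤ D.r → ∀ v, g * prodW D.e n v * g⁻¹ = D.el (appM ρ n v)
  | 0, _, v => by simp [prodW, appM, el_zero]
  | n + 1, hn, v => by
    simp only [prodW, appM, forceNat_eq]
    split
    · rw [← conj_mul, conj_el h n (by omega) v, h n (by omega)]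
      exact D.el_mul _ _
    · exact conj_el h n (by omega) v

theorem appM_lt {ρ : ℕ → ℕ} {b : ℕ} : ∀ (n : ℕ), (∀ i < n, ρ i < 2 ^ b) → ∀ v,
    appM ρ n v < 2 ^ b
  | 0, _, _ => by simp [appM]
  | n + 1, h, v => by
    simp only [appM, forceNat_eq]
    split
    · exact Nat.xor_lt_two_pow (appM_lt n (fun i hi => h i (by omega)) v) (h n (by omega))
    · exact appM_lt n (fun i hi => h i (by omega)) v

theorem u_el {n : ℕ} (hn : n < D.m) (w : ℕ) :
    D.u n * D.el w * (D.u n)⁻¹ = D.el (appM (D.c n) D.r w) :=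
  D.conj_el (fun i hi => D.conj_e n hn i hi) D.r le_rfl w

theorem act_lt : ∀ (n : ℕ), n ≤ D.m → ∀ k w, w < 2 ^ D.r → act D.c D.r n k w < 2 ^ D.r
  | 0, _, _, w, hw => by simpa [act] using hw
  | n + 1, hn, k, w, hw => by
    simp only [act, forceNat_eq]
    split
    · exact act_lt n (by omega) k _ (appM_lt _ (fun i hi => D.c_lt n (by omega) i hi) w)
    · exact act_lt n (by omega) k w hw

theorem prodW_el : ∀ (n : ℕ), n ≤ D.m → ∀ k w,
    prodW D.u n k * D.el w * (prodW D.u n k)⁻¹ = D.el (act D.c D.r n k w)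
  | 0, _, k, w => by simp [prodW, act]
  | n + 1, hn, k, w => by
    simp only [prodW, act, forceNat_eq]
    split
    · rw [← prodW_el n (by omega) k, ← D.u_el (by omega) w]; group
    · exact prodW_el n (by omega) k w

/-- normal form -/
def nf (n v k : ℕ) : G := D.el v * prodW D.u n k

/-- the step `n` of the series, as a set -/
def InK (n : ℕ) (g : G) : Prop := ∃ v < 2 ^ D.r, ∃ k < 2 ^ n, D.nf n v k = g

theorem nf_el (n : ℕ) (hn : n ≤ D.m) (v k w : ℕ) :
    D.nf n v k * D.el w * (D.nf n v k)⁻¹ = D.el (act D.c D.r n k w) := by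
  rw [nf, show D.el v * prodW D.u n k * D.el w * (D.el v * prodW D.u n k)⁻¹
      = D.el v * (prodW D.u n k * D.el w * (prodW D.u n k)⁻¹) * (D.el v)⁻¹ by group,
    D.prodW_el n hn k w, D.el_comm v, mul_inv_cancel_right]

theorem InK.el {n v : ℕ} (hv : v < 2 ^ D.r) : D.InK n (D.el v) :=
  ⟨v, hv, 0, by positivity, by simp [nf, prodW_zero]⟩

theorem InK.up {n : ℕ} {g : G} (h : D.InK n g) : D.InK (n + 1) g := by
  obtain ⟨v, hv, k, hk, rfl⟩ := h
  exact ⟨v, hv, k, by rw [pow_succ]; omega, by simp [nf, prodW_low D.u n k hk]⟩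

theorem InK.cases {n : ℕ} {g : G} (h : D.InK (n + 1) g) :
    ∃ x, D.InK n x ∧ (g = x ∨ g = x * D.u n) := by
  obtain ⟨v, hv, k, hk, rfl⟩ := h
  rw [pow_succ] at hk
  rcases Nat.lt_or_ge k (2 ^ n) with h | h
  · exact ⟨D.nf n v k, ⟨v, hv, k, h, rfl⟩, .inl (by simp [nf, prodW_low D.u n k h])⟩
  · refine ⟨D.nf n v (k - 2 ^ n), ⟨v, hv, _, by omega, rfl⟩, .inr ?_⟩
    rw [nf, nf, mul_assoc, ← prodW_add D.u n _ (by omega), show 2 ^ n + (k - 2 ^ n) = k by omega]

theorem InK.mul_u {n : ℕ} {g : G} (h : D.InK n g) : D.InK (n + 1) (g * D.u n) := by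
  obtain ⟨v, hv, k, hk, rfl⟩ := h
  refine ⟨v, hv, 2 ^ n + k, by rw [pow_succ]; omega, ?_⟩
  rw [nf, nf, prodW_add D.u n k hk, mul_assoc]

theorem exists_K : ∀ n ≤ D.m, ∃ K : Subgroup G, ∀ g, g ∈ K ↔ D.InK n g
  | 0, _ => ⟨D.E, fun g => by
      constructor
      · rintro ⟨v, hv, rfl⟩; exact InK.el D hv
      · rintro ⟨v, hv, k, hk, rfl⟩; simpa [nf, prodW] using D.el_mem hv⟩
  | n + 1, hn => by
    obtain ⟨K, hK⟩ := exists_K n (by omega)
    have hel : ∀ v < 2 ^ D.r, D.el v ∈ K := fun v hv => (hK _).mpr (InK.el D hv)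
    have hu : ∀ l, l < n → D.u l ∈ K := fun l hl => (hK _).mpr
      ⟨0, by positivity, 2 ^ l, Nat.pow_lt_pow_right (by omega) hl,
        by rw [nf, el_zero, one_mul, prodW_two_pow D.u hl]⟩
    have hc : ∀ l ≤ n, ∀ k, D.u n * prodW D.u l k * (D.u n)⁻¹ ∈ K := by
      intro l
      induction l with
      | zero => intro _ k; simpa [prodW] using K.one_mem
      | succ l ih =>
        intro hl k
        rw [prodW]
        split
        · rw [← conj_mul]
          refine K.mul_mem (ih (by omega) k) ((hK _).mpr ⟨_, (D.rel_lt n (by omega) l (by omega)).1,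
            _, (D.rel_lt n (by omega) l (by omega)).2, (D.u_conj n (by omega) l (by omega)).symm⟩)
        · exact ih (by omega) k
    have hnorm : ∀ x ∈ K, D.u n * x * (D.u n)⁻¹ ∈ K := by
      intro x hx
      obtain ⟨v, hv, k, hk, rfl⟩ := (hK x).mp hx
      rw [nf, ← conj_mul, D.u_el (by omega) v]
      exact K.mul_mem (hel _ (appM_lt _ (fun i hi => D.c_lt n (by omega) i hi) v)) (hc n le_rfl k)
    have hsq : D.u n * D.u n ∈ K := (hK _).mpr
      ⟨_, (D.sq_lt n (by omega)).1, _, (D.sq_lt n (by omega)).2, (D.u_sq n (by omega)).symm⟩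
    have hiff : ∀ g, D.InK (n + 1) g ↔ g ∈ K ∨ g * (D.u n)⁻¹ ∈ K := by
      intro g
      constructor
      · intro h
        obtain ⟨x, hx, rfl | rfl⟩ := h.cases D
        · exact .inl ((hK _).mpr hx)
        · exact .inr (by rw [mul_inv_cancel_right]; exact (hK _).mpr hx)
      · rintro (h | h)
        · exact ((hK _).mp h).up D
        · simpa using ((hK _).mp h).mul_u D
    refine ⟨⟨⟨⟨{g | D.InK (n + 1) g}, ?_⟩, ?_⟩, ?_⟩, fun g => Iff.rfl⟩
    · intro a b ha hb
      simp only [Set.mem_setOf_eq, hiff] at ha hb ⊢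
      rcases ha with ha | ha <;> rcases hb with hb | hb
      · exact .inl (K.mul_mem ha hb)
      · exact .inr (by rw [mul_assoc]; exact K.mul_mem ha hb)
      · right
        rw [show a * b * (D.u n)⁻¹ = a * (D.u n)⁻¹ * (D.u n * b * (D.u n)⁻¹) by group]
        exact K.mul_mem ha (hnorm b hb)
      · left
        rw [show a * b = a * (D.u n)⁻¹ * (D.u n * (b * (D.u n)⁻¹) * (D.u n)⁻¹) * (D.u n * D.u n)
          by group]
        exact K.mul_mem (K.mul_mem ha (hnorm _ hb)) hsq
    · simp only [Set.mem_setOf_eq, hiff]; exact .inl K.one_mem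
    · intro a ha
      simp only [Set.mem_setOf_eq, hiff] at ha ⊢
      rcases ha with ha | ha
      · exact .inl (K.inv_mem ha)
      · right
        rw [show a⁻¹ * (D.u n)⁻¹ =
          (D.u n * D.u n)⁻¹ * (D.u n * (a * (D.u n)⁻¹)⁻¹ * (D.u n)⁻¹) by group]
        exact K.mul_mem (K.inv_mem hsq) (hnorm _ (K.inv_mem ha))

/-- step `n` of the series -/
noncomputable def K (n : ℕ) (hn : n ≤ D.m) : Subgroup G := (D.exists_K n hn).choose

theorem mem_K {n : ℕ} (hn : n ≤ D.m) {g : G} : g ∈ D.K n hn ↔ D.InK n g :=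
  (D.exists_K n hn).choose_spec g

theorem u_notin {n : ℕ} (hn : n < D.m) : ¬ D.InK n (D.u n) := by
  rintro ⟨v, hv, k, hk, h⟩
  obtain ⟨i, hi, hne⟩ := D.new n hn k hk
  have hb : (2 : ℕ) ^ i < 2 ^ D.r := Nat.pow_lt_pow_right (by omega) hi
  refine hne (D.el_inj (D.act_lt n hn.le k _ hb) (D.c_lt n hn i hi) ?_)
  rw [← D.nf_el n hn.le v k, h, D.el_two_pow hi]
  exact D.conj_e n hn i hi

theorem card_K [Finite G] : ∀ n (hn : n ≤ D.m), Nat.card (D.K n hn) = 2 ^ (D.r + n)
  | 0, hn => by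
    have : D.K 0 hn = D.E := by
      ext g; rw [mem_K]
      constructor
      · rintro ⟨v, hv, k, hk, rfl⟩; simpa [nf, prodW] using D.el_mem hv
      · rintro ⟨v, hv, rfl⟩; exact InK.el D hv
    rw [this, D.card_E, add_zero]
  | n + 1, hn => by
    have ih := card_K n (by omega : n ≤ D.m)
    let f : D.K n (by omega) × Bool → D.K (n + 1) hn := fun p =>
      if p.2 then ⟨p.1 * D.u n, (D.mem_K _).mpr (((D.mem_K _).mp p.1.2).mul_u D)⟩
      else ⟨p.1, (D.mem_K _).mpr (((D.mem_K _).mp p.1.2).up D)⟩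
    have hnot : ∀ x y : D.K n (by omega), (x : G) * D.u n ≠ y := fun x y h =>
      D.u_notin (show n < D.m by omega) ((D.mem_K _).mp (by
        rw [show D.u n = (x : G)⁻¹ * y by rw [← h]; group]
        exact mul_mem (inv_mem x.2) y.2))
    have hf : Function.Bijective f := by
      constructor
      · rintro ⟨x, _ | _⟩ ⟨y, _ | _⟩ h <;> have h' := congrArg Subtype.val h <;>
          simp only [f, Bool.false_eq_true, if_false, if_true] at h'
        · exact Prod.ext (Subtype.ext h') rfl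
        · exact absurd h'.symm (hnot y x)
        · exact absurd h' (hnot x y)
        · exact Prod.ext (Subtype.ext (mul_right_cancel h')) rfl
      · rintro ⟨g, hg⟩
        obtain ⟨x, hx, rfl | rfl⟩ := ((D.mem_K _).mp hg).cases D
        · exact ⟨(⟨g, (D.mem_K _).mpr hx⟩, false), rfl⟩
        · exact ⟨(⟨x, (D.mem_K _).mpr hx⟩, true), rfl⟩
    rw [← Nat.card_eq_of_bijective f hf, Nat.card_prod, ih, Nat.card_eq_fintype_card,
      Fintype.card_bool, ← add_assoc, pow_succ]

/-- the whole extension -/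
noncomputable def top : Subgroup G := D.K D.m le_rfl

theorem E_le_top : D.E ≤ D.top := by
  rintro g ⟨v, hv, rfl⟩; exact (D.mem_K _).mpr (InK.el D hv)

theorem E_normal {g : G} (hg : g ∈ D.top) {x : G} (hx : x ∈ D.E) : g * x * g⁻¹ ∈ D.E := by
  obtain ⟨v, hv, k, hk, rfl⟩ := (D.mem_K _).mp hg
  obtain ⟨w, hw, rfl⟩ := hx
  rw [D.nf_el D.m le_rfl]
  exact D.el_mem (D.act_lt D.m le_rfl k w hw)

/-- action of a normal form -/
noncomputable abbrev ρ (k w : ℕ) : ℕ := act D.c D.r D.m k w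

/-- `g` lies over the normal form `k` -/
def Over (g : G) (k : ℕ) : Prop := ∀ i < D.r, g * D.e i * g⁻¹ = D.el (D.ρ k (2 ^ i))

theorem exists_over {g : G} (hg : g ∈ D.top) : ∃ k < 2 ^ D.m, D.Over g k := by
  obtain ⟨v, _, k, hk, rfl⟩ := (D.mem_K _).mp hg
  exact ⟨k, hk, fun i hi => by rw [← D.el_two_pow hi]; exact D.nf_el D.m le_rfl v k _⟩

theorem Over.el {g : G} {k : ℕ} (h : D.Over g k) {w : ℕ} (hw : w < 2 ^ D.r) :
    g * D.el w * g⁻¹ = D.el (D.ρ k w) := by
  have h1 := D.conj_el (g := g) h D.r le_rfl w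
  have h2 := D.conj_el (g := prodW D.u D.m k) (ρ := fun i => D.ρ k (2 ^ i))
    (fun i hi => by rw [← D.el_two_pow hi]; exact D.prodW_el D.m le_rfl k _) D.r le_rfl w
  exact h1.trans (h2.symm.trans (D.prodW_el D.m le_rfl k w))

theorem Over.zero_mem {g : G} (hg : g ∈ D.top)
    (h : ∀ i < D.r, g * D.e i * g⁻¹ = D.e i) : g ∈ D.E := by
  obtain ⟨v, hv, k, hk, rfl⟩ := (D.mem_K _).mp hg
  by_contra hne
  have hk0 : k ≠ 0 := by
    rintro rfl
    exact hne (by simpa [nf, prodW_zero] using D.el_mem hv)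
  -- the top bit of `k` gives a member of the step below acting like the step
  have key : ∀ n, n ≤ D.m → k < 2 ^ n → False := by
    intro n
    induction n with
    | zero => intro _ h2; simp at h2; omega
    | succ n ih =>
      intro hn hk'
      rcases Nat.lt_or_ge k (2 ^ n) with h2 | h2
      · exact ih (by omega) h2
      rw [pow_succ] at hk'
      have hpk : prodW D.u D.m k = prodW D.u n (k - 2 ^ n) * D.u n := by
        have hlow : ∀ j, n + 1 + j ≤ D.m → prodW D.u (n + 1 + j) k = prodW D.u (n + 1) k := by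
          intro j
          induction j with
          | zero => intro _; rfl
          | succ j ihj =>
            intro hj
            rw [show n + 1 + (j + 1) = n + 1 + j + 1 from rfl,
              prodW_low D.u _ k (lt_of_lt_of_le (show k < 2 ^ (n + 1) by rw [pow_succ]; omega)
                (Nat.pow_le_pow_right (by omega) (by omega))), ihj (by omega)]
        have := hlow (D.m - (n + 1)) (by omega)
        rw [show n + 1 + (D.m - (n + 1)) = D.m by omega] at this
        rw [this, ← prodW_add D.u n _ (by omega), show 2 ^ n + (k - 2 ^ n) = k by omega]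
      -- the inverse of the lower part
      have hx : prodW D.u n (k - 2 ^ n) ∈ D.K n (by omega) :=
        (D.mem_K _).mpr ⟨0, by positivity, k - 2 ^ n, by omega, by simp [nf, el_zero]⟩
      obtain ⟨w, hw, l, hl, hy⟩ := (D.mem_K _).mp (Subgroup.inv_mem _ hx)
      obtain ⟨i, hi, hne'⟩ := D.new n (by omega) l hl
      refine hne' (D.el_inj (D.act_lt n (by omega) l _ (Nat.pow_lt_pow_right (by omega) hi))
        (D.c_lt n (by omega) i hi) ?_)
      rw [← D.nf_el n (by omega) w l, hy, D.el_two_pow hi]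
      change _ = prodW D.e D.r (D.c n i)
      rw [← D.conj_e n (by omega) i hi]
      have h0 := h i hi
      have h3 : prodW D.u D.m k * D.e i * (prodW D.u D.m k)⁻¹ = D.e i := by
        rw [← D.el_two_pow hi, D.prodW_el D.m le_rfl k]
        rw [← D.el_two_pow hi, D.nf_el D.m le_rfl v k] at h0
        exact h0
      rw [hpk] at h3
      calc _ = (prodW D.u n (k - 2 ^ n))⁻¹ * (prodW D.u n (k - 2 ^ n) * D.u n * D.e i *
              (prodW D.u n (k - 2 ^ n) * D.u n)⁻¹) * prodW D.u n (k - 2 ^ n) := by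
            rw [h3]; group
        _ = _ := by group
  exact key D.m le_rfl hk

/-- Elements of the extension over the same normal form differ by `E`. -/
theorem Over.mem_E {g h : G} (hg : g ∈ D.top) (hh : h ∈ D.top) {k : ℕ}
    (h1 : D.Over g k) (h2 : D.Over h k) : h⁻¹ * g ∈ D.E := by
  refine Over.zero_mem D (mul_mem (inv_mem hh) hg) fun i hi => ?_
  rw [show h⁻¹ * g * D.e i * (h⁻¹ * g)⁻¹ = h⁻¹ * (g * D.e i * g⁻¹) * h by group, h1 i hi, ← h2 i hi]
  group

end Ext

end Cfsg.Agent.H55.Fi23T
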