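import Cfsg.Agent.H55.Fi23T.Normal

/-! Certificate data for a Sylow 2-subgroup of Fi23. -/

set_option autoImplicit false
set_option maxRecDepth 8000

namespace Cfsg.Agent.H55.Fi23T

/-- words of the eleven transpositions -/
def eWords : List (List Nat) :=
[[0],
 [2],
 [4],
 [6],
 [7],
 [3, 7, 4, 3, 2, 3, 4, 7, 3],
 [5, 4, 3, 7, 6, 5, 4, 3, 2, 3, 4, 5, 6, 7, 3, 4, 5],
 [1, 2, 3, 7, 4, 3, 2, 1, 0, 1, 2, 3, 4, 7, 3, 2, 1],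
 [5, 4, 1, 2, 3, 7, 6, 5, 4, 3, 2, 1, 0, 1, 2, 3, 4, 5, 6, 7, 3, 2, 1, 4, 5],
 [1, 2, 3, 7, 4, 5, 3, 4, 2, 3, 7, 6, 5, 4, 3, 2, 1, 2, 3, 4, 5, 6, 7, 3, 2, 4, 3, 5, 4, 7, 3, 2, 1],
 [8, 7, 3, 4, 2, 3, 7, 8, 5, 4, 1, 2, 3, 7, 6, 5, 4, 3, 2, 1, 0, 1, 2, 3, 4, 5, 6, 7, 3, 2, 1, 4, 5, 8, 7, 3, 2, 4, 3, 7, 8]]

/-- words of the series -/
def uWords : List (List Nat) :=
[[9, 6, 9, 9, 8, 7, 1, 2, 3, 4, 0, 1, 2, 3, 7, 8, 3, 4, 5, 2, 3, 4, 1, 2, 3, 7, 6, 5, 4, 3, 2, 1, 0, 1, 2, 3, 4, 5, 6, 7, 3, 2, 1, 4, 3, 2, 5, 4, 3, 8, 7, 3, 2, 1, 0, 4, 3, 2, 1, 7, 8, 9],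
 [6, 9, 3, 4, 5, 2, 3, 4, 1, 2, 3, 7, 6, 5, 4, 3, 2, 1, 0, 1, 2, 3, 4, 5, 6, 7, 3, 2, 1, 4, 3, 2, 5, 4, 3, 9, 6, 9],
 [6, 9, 5, 4, 1, 2, 3, 7, 6, 5, 4, 3, 2, 1, 0, 1, 2, 3, 4, 5, 6, 7, 3, 2, 1, 4, 5, 9, 6, 9],
 [6, 9, 5, 4, 3, 7, 6, 5, 4, 3, 2, 3, 4, 5, 6, 7, 3, 4, 5, 9, 6, 9],
 [7, 3, 2, 3, 7, 3, 4, 3, 7, 5, 4, 3, 2, 3, 4, 5, 7, 3, 4, 5, 3, 7, 8, 2, 3, 7, 5, 4, 3, 2, 1, 2, 3, 4, 5, 7, 3, 2, 8, 7, 3, 4, 3, 7, 8, 2, 3, 7, 5, 4, 3, 2, 1, 0, 1, 2, 3, 4, 5, 7, 3, 2, 8, 7, 3, 4, 6, 9, 5, 4, 1, 2, 3, 7, 6, 5, 4, 3, 2, 1, 0, 1, 2, 3, 4, 5, 6, 7, 3, 2, 1, 4, 5, 9, 6, 9],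
 [7, 3, 2, 1, 2, 3, 7, 3, 2, 1, 0, 1, 2, 3, 2, 1, 2, 1, 0, 1, 8, 7, 4, 3, 2, 1, 2, 3, 4, 7, 8, 3, 7, 8, 2, 3, 7, 4, 3, 2, 1, 2, 3, 4, 7, 3, 2, 8, 7, 3, 4, 2, 3, 7, 5, 4, 3, 2, 1, 2, 3, 4, 5, 7, 3, 2, 4, 3, 7, 5, 4, 3, 2, 1, 2, 3, 4, 5, 7, 3],
 [2, 1, 2, 1, 0, 1, 2, 3, 7, 5, 4, 3, 2, 1, 2, 3, 4, 5, 7, 3, 2, 3, 7, 5, 4, 3, 2, 1, 0, 1, 2, 3, 4, 5, 7, 3, 3, 7, 8, 3, 4, 1, 2, 3, 7, 5, 4, 3, 2, 1, 0, 1, 2, 3, 4, 5, 7, 3, 2, 1, 4, 3, 8, 7, 3, 2, 3, 7, 8, 4, 1, 2, 3, 7, 5, 4, 3, 2, 1, 0, 1, 2, 3, 4, 5, 7, 3, 2, 1, 4, 8, 7, 3, 2]]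

/-- conjugation rows of the series -/
def cRows : List (List Nat) :=
[[1, 2, 4, 1896, 16, 32, 1972, 128, 1746, 1477, 995],
 [1, 2, 4, 910, 16, 32, 995, 128, 512, 256, 1972],
 [1, 2, 4, 256, 16, 32, 347, 128, 8, 910, 1327],
 [1, 2, 4, 64, 16, 32, 8, 128, 347, 638, 1273],
 [4, 16, 1, 1477, 2, 32, 1565, 128, 910, 8, 638],
 [16, 1, 2, 512, 4, 128, 1024, 32, 8, 1273, 1972],
 [1, 16, 4, 1746, 2, 128, 1972, 32, 1896, 910, 1024]]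

/-- squares -/
def sqData : List (Nat × Nat) :=
[(0, 0), (0, 0), (0, 0), (0, 0), (2007, 1), (1, 20), (0, 0)]

/-- conjugates -/
def relData : List (List (Nat × Nat)) :=
[[],
 [(23, 1)],
 [(178, 1), (0, 2)],
 [(148, 1), (0, 2), (0, 4)],
 [(165, 1), (0, 2), (2002, 5), (37, 10)],
 [(165, 1), (1911, 3), (134, 6), (1877, 13), (151, 18)],
 [(178, 1), (1911, 3), (0, 4), (19, 12), (5, 16), (2, 52)]]

/-- moves of set 0 -/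
def moves0 : List Move :=
[.notInv,
 .grow 1 [(0, 0, 1, 1)],
 .grow 2 [(0, 0, 2, 2), (0, 32, 3, 3), (2, 32, 3, 1)],
 .grow 2 [(0, 32, 2, 2), (0, 0, 3, 3), (2, 0, 3, 1)],
 .grow 3 [(0, 0, 4, 4), (0, 16, 5, 5), (4, 16, 5, 1), (0, 32, 6, 6), (4, 32, 6, 2), (5, 32, 6, 3), (1, 32, 6, 7)],
 .grow 3 [(0, 16, 4, 4), (0, 0, 5, 5), (4, 0, 5, 1), (0, 48, 6, 6), (4, 48, 6, 2), (5, 48, 6, 3), (1, 48, 6, 7)],
 .grow 3 [(0, 48, 4, 4), (0, 32, 5, 5), (4, 32, 5, 1), (0, 0, 6, 6), (4, 0, 6, 2), (5, 0, 6, 3), (1, 0, 6, 7)],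
 .grow 3 [(0, 32, 4, 4), (0, 48, 5, 5), (4, 48, 5, 1), (0, 16, 6, 6), (4, 16, 6, 2), (5, 16, 6, 3), (1, 16, 6, 7)],
 .grow 4 [(0, 0, 8, 8), (0, 112, 9, 9), (8, 112, 9, 1), (0, 16, 10, 10), (8, 16, 10, 2), (9, 16, 10, 3), (1, 16, 10, 11), (0, 64, 12, 12), (8, 64, 12, 4), (9, 64, 12, 5), (1, 64, 12, 13), (10, 64, 12, 6), (2, 64, 12, 14), (3, 64, 12, 15), (11, 64, 12, 7)],
 .grow 4 [(0, 112, 8, 8), (0, 0, 9, 9), (8, 0, 9, 1), (0, 96, 10, 10), (8, 96, 10, 2), (9, 96, 10, 3), (1, 96, 10, 11), (0, 32, 12, 12), (8, 32, 12, 4), (9, 32, 12, 5), (1, 32, 12, 13), (10, 32, 12, 6), (2, 32, 12, 14), (3, 32, 12, 15), (11, 32, 12, 7)],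
 .grow 4 [(0, 16, 8, 8), (0, 96, 9, 9), (8, 96, 9, 1), (0, 0, 10, 10), (8, 0, 10, 2), (9, 0, 10, 3), (1, 0, 10, 11), (0, 80, 12, 12), (8, 80, 12, 4), (9, 80, 12, 5), (1, 80, 12, 13), (10, 80, 12, 6), (2, 80, 12, 14), (3, 80, 12, 15), (11, 80, 12, 7)],
 .grow 4 [(0, 96, 8, 8), (0, 16, 9, 9), (8, 16, 9, 1), (0, 112, 10, 10), (8, 112, 10, 2), (9, 112, 10, 3), (1, 112, 10, 11), (0, 48, 12, 12), (8, 48, 12, 4), (9, 48, 12, 5), (1, 48, 12, 13), (10, 48, 12, 6), (2, 48, 12, 14), (3, 48, 12, 15), (11, 48, 12, 7)],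
 .grow 4 [(0, 64, 8, 8), (0, 48, 9, 9), (8, 48, 9, 1), (0, 80, 10, 10), (8, 80, 10, 2), (9, 80, 10, 3), (1, 80, 10, 11), (0, 0, 12, 12), (8, 0, 12, 4), (9, 0, 12, 5), (1, 0, 12, 13), (10, 0, 12, 6), (2, 0, 12, 14), (3, 0, 12, 15), (11, 0, 12, 7)],
 .grow 4 [(0, 48, 8, 8), (0, 64, 9, 9), (8, 64, 9, 1), (0, 32, 10, 10), (8, 32, 10, 2), (9, 32, 10, 3), (1, 32, 10, 11), (0, 96, 12, 12), (8, 96, 12, 4), (9, 96, 12, 5), (1, 96, 12, 13), (10, 96, 12, 6), (2, 96, 12, 14), (3, 96, 12, 15), (11, 96, 12, 7)],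
 .grow 4 [(0, 32, 8, 8), (0, 80, 9, 9), (8, 80, 9, 1), (0, 48, 10, 10), (8, 48, 10, 2), (9, 48, 10, 3), (1, 48, 10, 11), (0, 112, 12, 12), (8, 112, 12, 4), (9, 112, 12, 5), (1, 112, 12, 13), (10, 112, 12, 6), (2, 112, 12, 14), (3, 112, 12, 15), (11, 112, 12, 7)],
 .grow 4 [(0, 80, 8, 8), (0, 32, 9, 9), (8, 32, 9, 1), (0, 64, 10, 10), (8, 64, 10, 2), (9, 64, 10, 3), (1, 64, 10, 11), (0, 16, 12, 12), (8, 16, 12, 4), (9, 16, 12, 5), (1, 16, 12, 13), (10, 16, 12, 6), (2, 16, 12, 14), (3, 16, 12, 15), (11, 16, 12, 7)],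
 .notInv,
 .notInv,
 .notInv,
 .notInv,
 .grow 5 [(0, 0, 20, 20), (0, 4, 21, 21), (20, 4, 21, 1), (0, 8, 22, 22), (20, 8, 22, 2), (21, 8, 22, 3), (1, 8, 22, 23)],
 .grow 5 [(0, 4, 20, 20), (0, 0, 21, 21), (20, 0, 21, 1), (0, 12, 22, 22), (20, 12, 22, 2), (21, 12, 22, 3), (1, 12, 22, 23)],
 .grow 5 [(0, 8, 20, 20), (0, 12, 21, 21), (20, 12, 21, 1), (0, 0, 22, 22), (20, 0, 22, 2), (21, 0, 22, 3), (1, 0, 22, 23)],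
 .grow 5 [(0, 12, 20, 20), (0, 8, 21, 21), (20, 8, 21, 1), (0, 4, 22, 22), (20, 4, 22, 2), (21, 4, 22, 3), (1, 4, 22, 23)],
 .notInv,
 .notInv,
 .notInv,
 .notInv,
 .notInv,
 .notInv,
 .notInv,
 .notInv,
 .notInv,
 .notInv,
 .notInv,
 .notInv,
 .notInv,
 .notInv,
 .notInv,
 .notInv,
 .notInv,
 .notInv,
 .notInv,
 .notInv,
 .notInv,
 .notInv,
 .notInv,
 .notInv,
 .notInv,
 .notInv,
 .notInv,
 .notInv,
 .notInv,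
 .notInv,
 .notInv,
 .notInv,
 .notInv,
 .notInv,
 .notInv,
 .notInv,
 .notInv,
 .notInv,
 .notInv,
 .notInv,
 .notConj 40 83,
 .notConj 40 82,
 .notInv,
 .notInv,
 .notConj 40 85,
 .notConj 40 84,
 .notInv,
 .notInv,
 .notInv,
 .notInv,
 .notInv,
 .notInv,
 .notInv,
 .notInv,
 .notInv,
 .notInv,
 .notInv,
 .notInv,
 .notConj 40 65,
 .notConj 40 64,
 .notConj 40 68,
 .notConj 40 69,
 .notInv,
 .notInv,
 .notInv,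
 .notInv,
 .notInv,
 .notInv,
 .notInv,
 .notInv,
 .notInv,
 .notInv,
 .grow 6 [(0, 0, 96, 96), (0, 12, 97, 97), (96, 12, 97, 1), (0, 4, 98, 98), (96, 4, 98, 2), (97, 4, 98, 3), (1, 4, 98, 99), (0, 32, 116, 116), (96, 32, 116, 20), (97, 32, 116, 21), (1, 32, 116, 117), (98, 32, 116, 22), (2, 32, 116, 118), (3, 32, 116, 119), (99, 32, 116, 23)],
 .grow 6 [(0, 12, 96, 96), (0, 0, 97, 97), (96, 0, 97, 1), (0, 8, 98, 98), (96, 8, 98, 2), (97, 8, 98, 3), (1, 8, 98, 99), (0, 40, 116, 116), (96, 40, 116, 20), (97, 40, 116, 21), (1, 40, 116, 117), (98, 40, 116, 22), (2, 40, 116, 118), (3, 40, 116, 119), (99, 40, 116, 23)],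
 .grow 6 [(0, 4, 96, 96), (0, 8, 97, 97), (96, 8, 97, 1), (0, 0, 98, 98), (96, 0, 98, 2), (97, 0, 98, 3), (1, 0, 98, 99), (0, 36, 116, 116), (96, 36, 116, 20), (97, 36, 116, 21), (1, 36, 116, 117), (98, 36, 116, 22), (2, 36, 116, 118), (3, 36, 116, 119), (99, 36, 116, 23)],
 .grow 6 [(0, 8, 96, 96), (0, 4, 97, 97), (96, 4, 97, 1), (0, 12, 98, 98), (96, 12, 98, 2), (97, 12, 98, 3), (1, 12, 98, 99), (0, 44, 116, 116), (96, 44, 116, 20), (97, 44, 116, 21), (1, 44, 116, 117), (98, 44, 116, 22), (2, 44, 116, 118), (3, 44, 116, 119), (99, 44, 116, 23)],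
 .notInv,
 .notInv,
 .notInv,
 .notInv,
 .notInv,
 .notInv,
 .notInv,
 .notInv,
 .notInv,
 .notInv,
 .notInv,
 .notInv,
 .notInv,
 .notInv,
 .notInv,
 .notInv,
 .grow 6 [(0, 32, 96, 96), (0, 44, 97, 97), (96, 44, 97, 1), (0, 36, 98, 98), (96, 36, 98, 2), (97, 36, 98, 3), (1, 36, 98, 99), (0, 0, 116, 116), (96, 0, 116, 20), (97, 0, 116, 21), (1, 0, 116, 117), (98, 0, 116, 22), (2, 0, 116, 118), (3, 0, 116, 119), (99, 0, 116, 23)],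
 .grow 6 [(0, 44, 96, 96), (0, 32, 97, 97), (96, 32, 97, 1), (0, 40, 98, 98), (96, 40, 98, 2), (97, 40, 98, 3), (1, 40, 98, 99), (0, 8, 116, 116), (96, 8, 116, 20), (97, 8, 116, 21), (1, 8, 116, 117), (98, 8, 116, 22), (2, 8, 116, 118), (3, 8, 116, 119), (99, 8, 116, 23)],
 .grow 6 [(0, 40, 96, 96), (0, 36, 97, 97), (96, 36, 97, 1), (0, 44, 98, 98), (96, 44, 98, 2), (97, 44, 98, 3), (1, 44, 98, 99), (0, 12, 116, 116), (96, 12, 116, 20), (97, 12, 116, 21), (1, 12, 116, 117), (98, 12, 116, 22), (2, 12, 116, 118), (3, 12, 116, 119), (99, 12, 116, 23)],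
 .grow 6 [(0, 36, 96, 96), (0, 40, 97, 97), (96, 40, 97, 1), (0, 32, 98, 98), (96, 32, 98, 2), (97, 32, 98, 3), (1, 32, 98, 99), (0, 4, 116, 116), (96, 4, 116, 20), (97, 4, 116, 21), (1, 4, 116, 117), (98, 4, 116, 22), (2, 4, 116, 118), (3, 4, 116, 119), (99, 4, 116, 23)],
 .notInv,
 .notInv,
 .notInv,
 .notInv,
 .notInv,
 .notInv,
 .notInv,
 .notInv]

/-- set 0 -/
def entry0 : Entry :=
⟨1, [], moves0⟩

/-- moves of set 1 -/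
def moves1 : List Move :=
[.notInv,
 .notInv,
 .grow 2 [(0, 0, 2, 2), (1, 0, 2, 3)],
 .grow 2 [(0, 32, 2, 2), (1, 32, 2, 3)],
 .grow 3 [(0, 0, 4, 4), (1, 0, 4, 5), (0, 32, 6, 6), (1, 32, 6, 7), (4, 32, 6, 2), (5, 32, 6, 3)],
 .grow 3 [(0, 16, 4, 4), (1, 16, 4, 5), (0, 48, 6, 6), (1, 48, 6, 7), (4, 48, 6, 2), (5, 48, 6, 3)],
 .grow 3 [(0, 48, 4, 4), (1, 48, 4, 5), (0, 0, 6, 6), (1, 0, 6, 7), (4, 0, 6, 2), (5, 0, 6, 3)],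
 .grow 3 [(0, 32, 4, 4), (1, 32, 4, 5), (0, 16, 6, 6), (1, 16, 6, 7), (4, 16, 6, 2), (5, 16, 6, 3)],
 .grow 4 [(0, 0, 8, 8), (1, 0, 8, 9), (0, 16, 10, 10), (1, 16, 10, 11), (8, 16, 10, 2), (9, 16, 10, 3), (0, 64, 12, 12), (1, 64, 12, 13), (8, 64, 12, 4), (9, 64, 12, 5), (10, 64, 12, 6), (11, 64, 12, 7), (2, 64, 12, 14), (3, 64, 12, 15)],
 .grow 4 [(0, 112, 8, 8), (1, 112, 8, 9), (0, 96, 10, 10), (1, 96, 10, 11), (8, 96, 10, 2), (9, 96, 10, 3), (0, 32, 12, 12), (1, 32, 12, 13), (8, 32, 12, 4), (9, 32, 12, 5), (10, 32, 12, 6), (11, 32, 12, 7), (2, 32, 12, 14), (3, 32, 12, 15)],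
 .grow 4 [(0, 16, 8, 8), (1, 16, 8, 9), (0, 0, 10, 10), (1, 0, 10, 11), (8, 0, 10, 2), (9, 0, 10, 3), (0, 80, 12, 12), (1, 80, 12, 13), (8, 80, 12, 4), (9, 80, 12, 5), (10, 80, 12, 6), (11, 80, 12, 7), (2, 80, 12, 14), (3, 80, 12, 15)],
 .grow 4 [(0, 96, 8, 8), (1, 96, 8, 9), (0, 112, 10, 10), (1, 112, 10, 11), (8, 112, 10, 2), (9, 112, 10, 3), (0, 48, 12, 12), (1, 48, 12, 13), (8, 48, 12, 4), (9, 48, 12, 5), (10, 48, 12, 6), (11, 48, 12, 7), (2, 48, 12, 14), (3, 48, 12, 15)],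
 .grow 4 [(0, 64, 8, 8), (1, 64, 8, 9), (0, 80, 10, 10), (1, 80, 10, 11), (8, 80, 10, 2), (9, 80, 10, 3), (0, 0, 12, 12), (1, 0, 12, 13), (8, 0, 12, 4), (9, 0, 12, 5), (10, 0, 12, 6), (11, 0, 12, 7), (2, 0, 12, 14), (3, 0, 12, 15)],
 .grow 4 [(0, 48, 8, 8), (1, 48, 8, 9), (0, 32, 10, 10), (1, 32, 10, 11), (8, 32, 10, 2), (9, 32, 10, 3), (0, 96, 12, 12), (1, 96, 12, 13), (8, 96, 12, 4), (9, 96, 12, 5), (10, 96, 12, 6), (11, 96, 12, 7), (2, 96, 12, 14), (3, 96, 12, 15)],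
 .grow 4 [(0, 32, 8, 8), (1, 32, 8, 9), (0, 48, 10, 10), (1, 48, 10, 11), (8, 48, 10, 2), (9, 48, 10, 3), (0, 112, 12, 12), (1, 112, 12, 13), (8, 112, 12, 4), (9, 112, 12, 5), (10, 112, 12, 6), (11, 112, 12, 7), (2, 112, 12, 14), (3, 112, 12, 15)],
 .grow 4 [(0, 80, 8, 8), (1, 80, 8, 9), (0, 64, 10, 10), (1, 64, 10, 11), (8, 64, 10, 2), (9, 64, 10, 3), (0, 16, 12, 12), (1, 16, 12, 13), (8, 16, 12, 4), (9, 16, 12, 5), (10, 16, 12, 6), (11, 16, 12, 7), (2, 16, 12, 14), (3, 16, 12, 15)],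
 .notInv,
 .notInv,
 .notInv,
 .notInv,
 .grow 5 [(0, 0, 20, 20), (1, 0, 20, 21), (0, 8, 22, 22), (1, 8, 22, 23), (20, 8, 22, 2), (21, 8, 22, 3)],
 .grow 5 [(0, 4, 20, 20), (1, 4, 20, 21), (0, 12, 22, 22), (1, 12, 22, 23), (20, 12, 22, 2), (21, 12, 22, 3)],
 .grow 5 [(0, 8, 20, 20), (1, 8, 20, 21), (0, 0, 22, 22), (1, 0, 22, 23), (20, 0, 22, 2), (21, 0, 22, 3)],
 .grow 5 [(0, 12, 20, 20), (1, 12, 20, 21), (0, 4, 22, 22), (1, 4, 22, 23), (20, 4, 22, 2), (21, 4, 22, 3)],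
 .notInv,
 .notInv,
 .notInv,
 .notInv,
 .notInv,
 .notInv,
 .notInv,
 .notInv,
 .notInv,
 .notInv,
 .notInv,
 .notInv,
 .notInv,
 .notInv,
 .notInv,
 .notInv,
 .notInv,
 .notInv,
 .notInv,
 .notInv,
 .notInv,
 .notInv,
 .notInv,
 .notInv,
 .notInv,
 .notInv,
 .notInv,
 .notInv,
 .notInv,
 .notInv,
 .notInv,
 .notInv,
 .notInv,
 .notInv,
 .notInv,
 .notInv,
 .notInv,
 .notInv,
 .notInv,
 .notInv,
 .notConj 40 83,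
 .notConj 40 82,
 .notInv,
 .notInv,
 .notConj 40 85,
 .notConj 40 84,
 .notInv,
 .notInv,
 .notInv,
 .notInv,
 .notInv,
 .notInv,
 .notInv,
 .notInv,
 .notInv,
 .notInv,
 .notInv,
 .notInv,
 .notConj 40 65,
 .notConj 40 64,
 .notConj 40 68,
 .notConj 40 69,
 .notInv,
 .notInv,
 .notInv,
 .notInv,
 .notInv,
 .notInv,
 .notInv,
 .notInv,
 .notInv,
 .notInv,
 .grow 6 [(0, 0, 96, 96), (1, 0, 96, 97), (0, 4, 98, 98), (1, 4, 98, 99), (96, 4, 98, 2), (97, 4, 98, 3), (0, 32, 116, 116), (1, 32, 116, 117), (96, 32, 116, 20), (97, 32, 116, 21), (98, 32, 116, 22), (99, 32, 116, 23), (2, 32, 116, 118), (3, 32, 116, 119)],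
 .grow 6 [(0, 12, 96, 96), (1, 12, 96, 97), (0, 8, 98, 98), (1, 8, 98, 99), (96, 8, 98, 2), (97, 8, 98, 3), (0, 40, 116, 116), (1, 40, 116, 117), (96, 40, 116, 20), (97, 40, 116, 21), (98, 40, 116, 22), (99, 40, 116, 23), (2, 40, 116, 118), (3, 40, 116, 119)],
 .grow 6 [(0, 4, 96, 96), (1, 4, 96, 97), (0, 0, 98, 98), (1, 0, 98, 99), (96, 0, 98, 2), (97, 0, 98, 3), (0, 36, 116, 116), (1, 36, 116, 117), (96, 36, 116, 20), (97, 36, 116, 21), (98, 36, 116, 22), (99, 36, 116, 23), (2, 36, 116, 118), (3, 36, 116, 119)],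
 .grow 6 [(0, 8, 96, 96), (1, 8, 96, 97), (0, 12, 98, 98), (1, 12, 98, 99), (96, 12, 98, 2), (97, 12, 98, 3), (0, 44, 116, 116), (1, 44, 116, 117), (96, 44, 116, 20), (97, 44, 116, 21), (98, 44, 116, 22), (99, 44, 116, 23), (2, 44, 116, 118), (3, 44, 116, 119)],
 .notInv,
 .notInv,
 .notInv,
 .notInv,
 .notInv,
 .notInv,
 .notInv,
 .notInv,
 .notInv,
 .notInv,
 .notInv,
 .notInv,
 .notInv,
 .notInv,
 .notInv,
 .notInv,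
 .grow 6 [(0, 32, 96, 96), (1, 32, 96, 97), (0, 36, 98, 98), (1, 36, 98, 99), (96, 36, 98, 2), (97, 36, 98, 3), (0, 0, 116, 116), (1, 0, 116, 117), (96, 0, 116, 20), (97, 0, 116, 21), (98, 0, 116, 22), (99, 0, 116, 23), (2, 0, 116, 118), (3, 0, 116, 119)],
 .grow 6 [(0, 44, 96, 96), (1, 44, 96, 97), (0, 40, 98, 98), (1, 40, 98, 99), (96, 40, 98, 2), (97, 40, 98, 3), (0, 8, 116, 116), (1, 8, 116, 117), (96, 8, 116, 20), (97, 8, 116, 21), (98, 8, 116, 22), (99, 8, 116, 23), (2, 8, 116, 118), (3, 8, 116, 119)],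
 .grow 6 [(0, 40, 96, 96), (1, 40, 96, 97), (0, 44, 98, 98), (1, 44, 98, 99), (96, 44, 98, 2), (97, 44, 98, 3), (0, 12, 116, 116), (1, 12, 116, 117), (96, 12, 116, 20), (97, 12, 116, 21), (98, 12, 116, 22), (99, 12, 116, 23), (2, 12, 116, 118), (3, 12, 116, 119)],
 .grow 6 [(0, 36, 96, 96), (1, 36, 96, 97), (0, 32, 98, 98), (1, 32, 98, 99), (96, 32, 98, 2), (97, 32, 98, 3), (0, 4, 116, 116), (1, 4, 116, 117), (96, 4, 116, 20), (97, 4, 116, 21), (98, 4, 116, 22), (99, 4, 116, 23), (2, 4, 116, 118), (3, 4, 116, 119)],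
 .notInv,
 .notInv,
 .notInv,
 .notInv,
 .notInv,
 .notInv,
 .notInv,
 .notInv]

/-- set 1 -/
def entry1 : Entry :=
⟨3, [(1, [1, 2, 4, 1896, 16, 32, 1972, 128, 1746, 1477, 995])], moves1⟩

/-- moves of set 2 -/
def moves2 : List Move :=
[.notInv,
 .notInv,
 .notInv,
 .notInv,
 .grow 3 [(0, 0, 4, 4), (1, 0, 4, 5), (2, 0, 4, 6), (3, 0, 4, 7)],
 .grow 3 [(0, 16, 4, 4), (1, 16, 4, 5), (2, 16, 4, 6), (3, 16, 4, 7)],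
 .grow 3 [(0, 48, 4, 4), (1, 48, 4, 5), (2, 48, 4, 6), (3, 48, 4, 7)],
 .grow 3 [(0, 32, 4, 4), (1, 32, 4, 5), (2, 32, 4, 6), (3, 32, 4, 7)],
 .grow 4 [(0, 0, 8, 8), (1, 0, 8, 9), (2, 0, 8, 10), (3, 0, 8, 11), (0, 64, 12, 12), (1, 64, 12, 13), (2, 64, 12, 14), (3, 64, 12, 15), (8, 64, 12, 4), (9, 64, 12, 5), (10, 64, 12, 6), (11, 64, 12, 7)],
 .grow 4 [(0, 112, 8, 8), (1, 112, 8, 9), (2, 112, 8, 10), (3, 112, 8, 11), (0, 32, 12, 12), (1, 32, 12, 13), (2, 32, 12, 14), (3, 32, 12, 15), (8, 32, 12, 4), (9, 32, 12, 5), (10, 32, 12, 6), (11, 32, 12, 7)],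
 .grow 4 [(0, 16, 8, 8), (1, 16, 8, 9), (2, 16, 8, 10), (3, 16, 8, 11), (0, 80, 12, 12), (1, 80, 12, 13), (2, 80, 12, 14), (3, 80, 12, 15), (8, 80, 12, 4), (9, 80, 12, 5), (10, 80, 12, 6), (11, 80, 12, 7)],
 .grow 4 [(0, 96, 8, 8), (1, 96, 8, 9), (2, 96, 8, 10), (3, 96, 8, 11), (0, 48, 12, 12), (1, 48, 12, 13), (2, 48, 12, 14), (3, 48, 12, 15), (8, 48, 12, 4), (9, 48, 12, 5), (10, 48, 12, 6), (11, 48, 12, 7)],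
 .grow 4 [(0, 64, 8, 8), (1, 64, 8, 9), (2, 64, 8, 10), (3, 64, 8, 11), (0, 0, 12, 12), (1, 0, 12, 13), (2, 0, 12, 14), (3, 0, 12, 15), (8, 0, 12, 4), (9, 0, 12, 5), (10, 0, 12, 6), (11, 0, 12, 7)],
 .grow 4 [(0, 48, 8, 8), (1, 48, 8, 9), (2, 48, 8, 10), (3, 48, 8, 11), (0, 96, 12, 12), (1, 96, 12, 13), (2, 96, 12, 14), (3, 96, 12, 15), (8, 96, 12, 4), (9, 96, 12, 5), (10, 96, 12, 6), (11, 96, 12, 7)],
 .grow 4 [(0, 32, 8, 8), (1, 32, 8, 9), (2, 32, 8, 10), (3, 32, 8, 11), (0, 112, 12, 12), (1, 112, 12, 13), (2, 112, 12, 14), (3, 112, 12, 15), (8, 112, 12, 4), (9, 112, 12, 5), (10, 112, 12, 6), (11, 112, 12, 7)],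
 .grow 4 [(0, 80, 8, 8), (1, 80, 8, 9), (2, 80, 8, 10), (3, 80, 8, 11), (0, 16, 12, 12), (1, 16, 12, 13), (2, 16, 12, 14), (3, 16, 12, 15), (8, 16, 12, 4), (9, 16, 12, 5), (10, 16, 12, 6), (11, 16, 12, 7)],
 .notInv,
 .notInv,
 .notInv,
 .notInv,
 .grow 5 [(0, 0, 20, 20), (1, 0, 20, 21), (2, 0, 20, 22), (3, 0, 20, 23)],
 .grow 5 [(0, 4, 20, 20), (1, 4, 20, 21), (2, 4, 20, 22), (3, 4, 20, 23)],
 .grow 5 [(0, 8, 20, 20), (1, 8, 20, 21), (2, 8, 20, 22), (3, 8, 20, 23)],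
 .grow 5 [(0, 12, 20, 20), (1, 12, 20, 21), (2, 12, 20, 22), (3, 12, 20, 23)],
 .notInv,
 .notInv,
 .notInv,
 .notInv,
 .notInv,
 .notInv,
 .notInv,
 .notInv,
 .notInv,
 .notInv,
 .notInv,
 .notInv,
 .notInv,
 .notInv,
 .notInv,
 .notInv,
 .notInv,
 .notInv,
 .notInv,
 .notInv,
 .notInv,
 .notInv,
 .notInv,
 .notInv,
 .notInv,
 .notInv,
 .notInv,
 .notInv,
 .notInv,
 .notInv,
 .notInv,
 .notInv,
 .notInv,
 .notInv,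
 .notInv,
 .notInv,
 .notInv,
 .notInv,
 .notInv,
 .notInv,
 .notComm 2,
 .notComm 2,
 .notInv,
 .notInv,
 .notComm 2,
 .notComm 2,
 .notInv,
 .notInv,
 .notInv,
 .notInv,
 .notInv,
 .notInv,
 .notInv,
 .notInv,
 .notInv,
 .notInv,
 .notInv,
 .notInv,
 .notComm 2,
 .notComm 2,
 .notComm 2,
 .notComm 2,
 .notInv,
 .notInv,
 .notInv,
 .notInv,
 .notInv,
 .notInv,
 .notInv,
 .notInv,
 .notInv,
 .notInv,
 .grow 6 [(0, 0, 96, 96), (1, 0, 96, 97), (2, 0, 96, 98), (3, 0, 96, 99), (0, 32, 116, 116), (1, 32, 116, 117), (2, 32, 116, 118), (3, 32, 116, 119), (96, 32, 116, 20), (97, 32, 116, 21), (98, 32, 116, 22), (99, 32, 116, 23)],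
 .grow 6 [(0, 12, 96, 96), (1, 12, 96, 97), (2, 12, 96, 98), (3, 12, 96, 99), (0, 40, 116, 116), (1, 40, 116, 117), (2, 40, 116, 118), (3, 40, 116, 119), (96, 40, 116, 20), (97, 40, 116, 21), (98, 40, 116, 22), (99, 40, 116, 23)],
 .grow 6 [(0, 4, 96, 96), (1, 4, 96, 97), (2, 4, 96, 98), (3, 4, 96, 99), (0, 36, 116, 116), (1, 36, 116, 117), (2, 36, 116, 118), (3, 36, 116, 119), (96, 36, 116, 20), (97, 36, 116, 21), (98, 36, 116, 22), (99, 36, 116, 23)],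
 .grow 6 [(0, 8, 96, 96), (1, 8, 96, 97), (2, 8, 96, 98), (3, 8, 96, 99), (0, 44, 116, 116), (1, 44, 116, 117), (2, 44, 116, 118), (3, 44, 116, 119), (96, 44, 116, 20), (97, 44, 116, 21), (98, 44, 116, 22), (99, 44, 116, 23)],
 .notInv,
 .notInv,
 .notInv,
 .notInv,
 .notInv,
 .notInv,
 .notInv,
 .notInv,
 .notInv,
 .notInv,
 .notInv,
 .notInv,
 .notInv,
 .notInv,
 .notInv,
 .notInv,
 .grow 6 [(0, 32, 96, 96), (1, 32, 96, 97), (2, 32, 96, 98), (3, 32, 96, 99), (0, 0, 116, 116), (1, 0, 116, 117), (2, 0, 116, 118), (3, 0, 116, 119), (96, 0, 116, 20), (97, 0, 116, 21), (98, 0, 116, 22), (99, 0, 116, 23)],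
 .grow 6 [(0, 44, 96, 96), (1, 44, 96, 97), (2, 44, 96, 98), (3, 44, 96, 99), (0, 8, 116, 116), (1, 8, 116, 117), (2, 8, 116, 118), (3, 8, 116, 119), (96, 8, 116, 20), (97, 8, 116, 21), (98, 8, 116, 22), (99, 8, 116, 23)],
 .grow 6 [(0, 40, 96, 96), (1, 40, 96, 97), (2, 40, 96, 98), (3, 40, 96, 99), (0, 12, 116, 116), (1, 12, 116, 117), (2, 12, 116, 118), (3, 12, 116, 119), (96, 12, 116, 20), (97, 12, 116, 21), (98, 12, 116, 22), (99, 12, 116, 23)],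
 .grow 6 [(0, 36, 96, 96), (1, 36, 96, 97), (2, 36, 96, 98), (3, 36, 96, 99), (0, 4, 116, 116), (1, 4, 116, 117), (2, 4, 116, 118), (3, 4, 116, 119), (96, 4, 116, 20), (97, 4, 116, 21), (98, 4, 116, 22), (99, 4, 116, 23)],
 .notInv,
 .notInv,
 .notInv,
 .notInv,
 .notInv,
 .notInv,
 .notInv,
 .notInv]

/-- set 2 -/
def entry2 : Entry :=
⟨15, [(1, [1, 2, 4, 1896, 16, 32, 1972, 128, 1746, 1477, 995]), (2, [1, 2, 4, 910, 16, 32, 995, 128, 512, 256, 1972])], moves2⟩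

/-- moves of set 3 -/
def moves3 : List Move :=
[.notInv,
 .notInv,
 .notInv,
 .notInv,
 .notInv,
 .notInv,
 .notInv,
 .notInv,
 .grow 4 [(0, 0, 8, 8), (1, 0, 8, 9), (2, 0, 8, 10), (3, 0, 8, 11), (4, 0, 8, 12), (5, 0, 8, 13), (6, 0, 8, 14), (7, 0, 8, 15)],
 .grow 4 [(0, 112, 8, 8), (1, 112, 8, 9), (2, 112, 8, 10), (3, 112, 8, 11), (4, 112, 8, 12), (5, 112, 8, 13), (6, 112, 8, 14), (7, 112, 8, 15)],
 .grow 4 [(0, 16, 8, 8), (1, 16, 8, 9), (2, 16, 8, 10), (3, 16, 8, 11), (4, 16, 8, 12), (5, 16, 8, 13), (6, 16, 8, 14), (7, 16, 8, 15)],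
 .grow 4 [(0, 96, 8, 8), (1, 96, 8, 9), (2, 96, 8, 10), (3, 96, 8, 11), (4, 96, 8, 12), (5, 96, 8, 13), (6, 96, 8, 14), (7, 96, 8, 15)],
 .grow 4 [(0, 64, 8, 8), (1, 64, 8, 9), (2, 64, 8, 10), (3, 64, 8, 11), (4, 64, 8, 12), (5, 64, 8, 13), (6, 64, 8, 14), (7, 64, 8, 15)],
 .grow 4 [(0, 48, 8, 8), (1, 48, 8, 9), (2, 48, 8, 10), (3, 48, 8, 11), (4, 48, 8, 12), (5, 48, 8, 13), (6, 48, 8, 14), (7, 48, 8, 15)],
 .grow 4 [(0, 32, 8, 8), (1, 32, 8, 9), (2, 32, 8, 10), (3, 32, 8, 11), (4, 32, 8, 12), (5, 32, 8, 13), (6, 32, 8, 14), (7, 32, 8, 15)],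
 .grow 4 [(0, 80, 8, 8), (1, 80, 8, 9), (2, 80, 8, 10), (3, 80, 8, 11), (4, 80, 8, 12), (5, 80, 8, 13), (6, 80, 8, 14), (7, 80, 8, 15)],
 .notInv,
 .notInv,
 .notInv,
 .notInv,
 .notComm 4,
 .notComm 4,
 .notComm 4,
 .notComm 4,
 .notInv,
 .notInv,
 .notInv,
 .notInv,
 .notInv,
 .notInv,
 .notInv,
 .notInv,
 .notInv,
 .notInv,
 .notInv,
 .notInv,
 .notInv,
 .notInv,
 .notInv,
 .notInv,
 .notInv,
 .notInv,
 .notInv,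
 .notInv,
 .notInv,
 .notInv,
 .notInv,
 .notInv,
 .notInv,
 .notInv,
 .notInv,
 .notInv,
 .notInv,
 .notInv,
 .notInv,
 .notInv,
 .notInv,
 .notInv,
 .notInv,
 .notInv,
 .notInv,
 .notInv,
 .notInv,
 .notInv,
 .notComm 2,
 .notComm 2,
 .notInv,
 .notInv,
 .notComm 2,
 .notComm 2,
 .notInv,
 .notInv,
 .notInv,
 .notInv,
 .notInv,
 .notInv,
 .notInv,
 .notInv,
 .notInv,
 .notInv,
 .notInv,
 .notInv,
 .notComm 2,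
 .notComm 2,
 .notComm 2,
 .notComm 2,
 .notInv,
 .notInv,
 .notInv,
 .notInv,
 .notInv,
 .notInv,
 .notInv,
 .notInv,
 .notInv,
 .notInv,
 .notComm 4,
 .notComm 4,
 .notComm 4,
 .notComm 4,
 .notInv,
 .notInv,
 .notInv,
 .notInv,
 .notInv,
 .notInv,
 .notInv,
 .notInv,
 .notInv,
 .notInv,
 .notInv,
 .notInv,
 .notInv,
 .notInv,
 .notInv,
 .notInv,
 .notComm 4,
 .notComm 4,
 .notComm 4,
 .notComm 4,
 .notInv,
 .notInv,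
 .notInv,
 .notInv,
 .notInv,
 .notInv,
 .notInv,
 .notInv]

/-- set 3 -/
def entry3 : Entry :=
⟨255, [(1, [1, 2, 4, 1896, 16, 32, 1972, 128, 1746, 1477, 995]), (2, [1, 2, 4, 910, 16, 32, 995, 128, 512, 256, 1972]), (4, [1, 2, 4, 256, 16, 32, 347, 128, 8, 910, 1327])], moves3⟩

/-- moves of set 4 -/
def moves4 : List Move :=
[.notInv,
 .notInv,
 .notInv,
 .notInv,
 .notInv,
 .notInv,
 .notInv,
 .notInv,
 .notInv,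
 .notInv,
 .notInv,
 .notInv,
 .notInv,
 .notInv,
 .notInv,
 .notInv,
 .notInv,
 .notInv,
 .notInv,
 .notInv,
 .notComm 4,
 .notComm 4,
 .notComm 4,
 .notComm 4,
 .notInv,
 .notInv,
 .notInv,
 .notInv,
 .notInv,
 .notInv,
 .notInv,
 .notInv,
 .notInv,
 .notInv,
 .notInv,
 .notInv,
 .notInv,
 .notInv,
 .notInv,
 .notInv,
 .notInv,
 .notInv,
 .notInv,
 .notInv,
 .notInv,
 .notInv,
 .notInv,
 .notInv,
 .notInv,
 .notInv,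
 .notInv,
 .notInv,
 .notInv,
 .notInv,
 .notInv,
 .notInv,
 .notInv,
 .notInv,
 .notInv,
 .notInv,
 .notInv,
 .notInv,
 .notInv,
 .notInv,
 .notComm 2,
 .notComm 2,
 .notInv,
 .notInv,
 .notComm 2,
 .notComm 2,
 .notInv,
 .notInv,
 .notInv,
 .notInv,
 .notInv,
 .notInv,
 .notInv,
 .notInv,
 .notInv,
 .notInv,
 .notInv,
 .notInv,
 .notComm 2,
 .notComm 2,
 .notComm 2,
 .notComm 2,
 .notInv,
 .notInv,
 .notInv,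
 .notInv,
 .notInv,
 .notInv,
 .notInv,
 .notInv,
 .notInv,
 .notInv,
 .notComm 4,
 .notComm 4,
 .notComm 4,
 .notComm 4,
 .notInv,
 .notInv,
 .notInv,
 .notInv,
 .notInv,
 .notInv,
 .notInv,
 .notInv,
 .notInv,
 .notInv,
 .notInv,
 .notInv,
 .notInv,
 .notInv,
 .notInv,
 .notInv,
 .notComm 4,
 .notComm 4,
 .notComm 4,
 .notComm 4,
 .notInv,
 .notInv,
 .notInv,
 .notInv,
 .notInv,
 .notInv,
 .notInv,
 .notInv]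

/-- set 4 -/
def entry4 : Entry :=
⟨65535, [(1, [1, 2, 4, 1896, 16, 32, 1972, 128, 1746, 1477, 995]), (2, [1, 2, 4, 910, 16, 32, 995, 128, 512, 256, 1972]), (4, [1, 2, 4, 256, 16, 32, 347, 128, 8, 910, 1327]), (8, [1, 2, 4, 64, 16, 32, 8, 128, 347, 638, 1273])], moves4⟩

/-- moves of set 5 -/
def moves5 : List Move :=
[.notInv,
 .notInv,
 .notInv,
 .notInv,
 .notComm 20,
 .notComm 20,
 .notComm 20,
 .notComm 20,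
 .notComm 20,
 .notComm 20,
 .notComm 20,
 .notComm 20,
 .notComm 20,
 .notComm 20,
 .notComm 20,
 .notComm 20,
 .notInv,
 .notInv,
 .notInv,
 .notInv,
 .notInv,
 .notInv,
 .notInv,
 .notInv,
 .notInv,
 .notInv,
 .notInv,
 .notInv,
 .notInv,
 .notInv,
 .notInv,
 .notInv,
 .notInv,
 .notInv,
 .notInv,
 .notInv,
 .notInv,
 .notInv,
 .notInv,
 .notInv,
 .notInv,
 .notInv,
 .notInv,
 .notInv,
 .notInv,
 .notInv,
 .notInv,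
 .notInv,
 .notInv,
 .notInv,
 .notInv,
 .notInv,
 .notInv,
 .notInv,
 .notInv,
 .notInv,
 .notInv,
 .notInv,
 .notInv,
 .notInv,
 .notInv,
 .notInv,
 .notInv,
 .notInv,
 .notComm 2,
 .notComm 2,
 .notInv,
 .notInv,
 .notComm 2,
 .notComm 2,
 .notInv,
 .notInv,
 .notInv,
 .notInv,
 .notInv,
 .notInv,
 .notInv,
 .notInv,
 .notInv,
 .notInv,
 .notInv,
 .notInv,
 .notComm 2,
 .notComm 2,
 .notComm 2,
 .notComm 2,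
 .notInv,
 .notInv,
 .notInv,
 .notInv,
 .notInv,
 .notInv,
 .notInv,
 .notInv,
 .notInv,
 .notInv,
 .grow 6 [(0, 0, 96, 96), (1, 0, 96, 97), (2, 0, 96, 98), (3, 0, 96, 99), (20, 0, 96, 116), (21, 0, 96, 117), (22, 0, 96, 118), (23, 0, 96, 119)],
 .grow 6 [(0, 12, 96, 96), (1, 12, 96, 97), (2, 12, 96, 98), (3, 12, 96, 99), (20, 12, 96, 116), (21, 12, 96, 117), (22, 12, 96, 118), (23, 12, 96, 119)],
 .grow 6 [(0, 4, 96, 96), (1, 4, 96, 97), (2, 4, 96, 98), (3, 4, 96, 99), (20, 4, 96, 116), (21, 4, 96, 117), (22, 4, 96, 118), (23, 4, 96, 119)],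
 .grow 6 [(0, 8, 96, 96), (1, 8, 96, 97), (2, 8, 96, 98), (3, 8, 96, 99), (20, 8, 96, 116), (21, 8, 96, 117), (22, 8, 96, 118), (23, 8, 96, 119)],
 .notInv,
 .notInv,
 .notInv,
 .notInv,
 .notInv,
 .notInv,
 .notInv,
 .notInv,
 .notInv,
 .notInv,
 .notInv,
 .notInv,
 .notInv,
 .notInv,
 .notInv,
 .notInv,
 .grow 6 [(0, 32, 96, 96), (1, 32, 96, 97), (2, 32, 96, 98), (3, 32, 96, 99), (20, 32, 96, 116), (21, 32, 96, 117), (22, 32, 96, 118), (23, 32, 96, 119)],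
 .grow 6 [(0, 44, 96, 96), (1, 44, 96, 97), (2, 44, 96, 98), (3, 44, 96, 99), (20, 44, 96, 116), (21, 44, 96, 117), (22, 44, 96, 118), (23, 44, 96, 119)],
 .grow 6 [(0, 40, 96, 96), (1, 40, 96, 97), (2, 40, 96, 98), (3, 40, 96, 99), (20, 40, 96, 116), (21, 40, 96, 117), (22, 40, 96, 118), (23, 40, 96, 119)],
 .grow 6 [(0, 36, 96, 96), (1, 36, 96, 97), (2, 36, 96, 98), (3, 36, 96, 99), (20, 36, 96, 116), (21, 36, 96, 117), (22, 36, 96, 118), (23, 36, 96, 119)],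
 .notInv,
 .notInv,
 .notInv,
 .notInv,
 .notInv,
 .notInv,
 .notInv,
 .notInv]

/-- set 5 -/
def entry5 : Entry :=
⟨15728655, [(1, [1, 2, 4, 1896, 16, 32, 1972, 128, 1746, 1477, 995]), (2, [1, 2, 4, 910, 16, 32, 995, 128, 512, 256, 1972]), (20, [4, 16, 1, 1273, 2, 32, 1972, 128, 512, 256, 995])], moves5⟩

/-- moves of set 6 -/
def moves6 : List Move :=
[.notInv,
 .notInv,
 .notInv,
 .notInv,
 .notComm 20,
 .notComm 20,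
 .notComm 20,
 .notComm 20,
 .notComm 20,
 .notComm 20,
 .notComm 20,
 .notComm 20,
 .notComm 20,
 .notComm 20,
 .notComm 20,
 .notComm 20,
 .notInv,
 .notInv,
 .notInv,
 .notInv,
 .notInv,
 .notInv,
 .notInv,
 .notInv,
 .notInv,
 .notInv,
 .notInv,
 .notInv,
 .notInv,
 .notInv,
 .notInv,
 .notInv,
 .notInv,
 .notInv,
 .notInv,
 .notInv,
 .notInv,
 .notInv,
 .notInv,
 .notInv,
 .notInv,
 .notInv,
 .notInv,
 .notInv,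
 .notInv,
 .notInv,
 .notInv,
 .notInv,
 .notInv,
 .notInv,
 .notInv,
 .notInv,
 .notInv,
 .notInv,
 .notInv,
 .notInv,
 .notInv,
 .notInv,
 .notInv,
 .notInv,
 .notInv,
 .notInv,
 .notInv,
 .notInv,
 .notComm 2,
 .notComm 2,
 .notInv,
 .notInv,
 .notComm 2,
 .notComm 2,
 .notInv,
 .notInv,
 .notInv,
 .notInv,
 .notInv,
 .notInv,
 .notInv,
 .notInv,
 .notInv,
 .notInv,
 .notInv,
 .notInv,
 .notComm 2,
 .notComm 2,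
 .notComm 2,
 .notComm 2,
 .notInv,
 .notInv,
 .notInv,
 .notInv,
 .notInv,
 .notInv,
 .notInv,
 .notInv,
 .notInv,
 .notInv,
 .notInv,
 .notInv,
 .notInv,
 .notInv,
 .notInv,
 .notInv,
 .notInv,
 .notInv,
 .notInv,
 .notInv,
 .notInv,
 .notInv,
 .notInv,
 .notInv,
 .notInv,
 .notInv,
 .notInv,
 .notInv,
 .notInv,
 .notInv,
 .notInv,
 .notInv,
 .notInv,
 .notInv,
 .notInv,
 .notInv,
 .notInv,
 .notInv,
 .notInv,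
 .notInv,
 .notInv,
 .notInv]

/-- set 6 -/
def entry6 : Entry :=
⟨1246152434470796344812383022187806735, [(1, [1, 2, 4, 1896, 16, 32, 1972, 128, 1746, 1477, 995]), (2, [1, 2, 4, 910, 16, 32, 995, 128, 512, 256, 1972]), (20, [4, 16, 1, 1273, 2, 32, 1972, 128, 512, 256, 995]), (96, [16, 4, 2, 1896, 1, 32, 995, 128, 1477, 1746, 1972])], moves6⟩

/-- the family -/
def family : List Entry :=
[entry0, entry1, entry2, entry3, entry4, entry5, entry6]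

end Cfsg.Agent.H55.Fi23T
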