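import Cfsg.Agent.H16.Fi23Order
import Cfsg.Agent.H55.Fi23T.Data

/-! The extension inside the presented group Fi23. -/

set_option autoImplicit false

namespace Cfsg.Agent.H55.Fi23T

open Cfsg.Spor H16 H16.EnumData

/-- word of `prodW` of the words `ws` -/
def wordW (ws : ℕ → List ℕ) : ℕ → ℕ → List ℕ
  | 0, _ => []
  | n + 1, v => if v.testBit n then ws n ++ wordW ws n v else wordW ws n v

theorem ev_wordW {G : Type*} [Group G] (s : ℕ → G) (ws : ℕ → List ℕ) : ∀ n v,
    ev s (wordW ws n v) = prodW (fun i => ev s (ws i)) n v
  | 0, _ => rfl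
  | n + 1, v => by
    simp only [wordW, prodW]
    split
    · rw [ev_append, ev_wordW s ws n v]
    · exact ev_wordW s ws n v

/-- word of a transposition -/
abbrev eW (i : ℕ) : List ℕ := eWords.getD i []
/-- word of a series element -/
abbrev uW (i : ℕ) : List ℕ := uWords.getD i []
/-- rows -/
abbrev cR (n i : ℕ) : ℕ := (cRows.getD n []).getD i 0
/-- square data -/
abbrev sqD (n : ℕ) : ℕ × ℕ := sqData.getD n (0, 0)
/-- conjugate data -/
abbrev relD (n l : ℕ) : ℕ × ℕ := (relData.getD n []).getD l (0, 0)

/-- the base points -/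
abbrev basePts : List ℕ := [8, 7, 6, 5, 4, 3, 2, 1, 0]

theorem allFixed_base : allFixed Fi23H.base [] = basePts := rfl

/-- two words agree on the base points -/
noncomputable def sameOnBase (u v : List ℕ) : Bool :=
  (u ++ v.reverse).all (fun g => Nat.ble (g + 1) 10) &&
    basePts.all fun i => Nat.beq (Fi23H.data.run (u ++ v.reverse) i) i

theorem ev_eq_of {u v : List ℕ} (h : sameOnBase u v = true) :
    ev Fi23H.val u = ev Fi23H.val v := by
  simp only [sameOnBase, Bool.and_eq_true] at h
  have hlt : ∀ g ∈ u ++ v.reverse, g < Fi23H.data.ng := fun g hg =>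
    Nat.le_of_ble_eq_true (List.all_eq_true.mp h.1 g hg)
  have h1 := Fi23H.theModel.pow_eq_one_of_base Fi23Order.card_and_faithful.2 Fi23H.base_ok
    Fi23H.base_prod Fi23Order.card_and_faithful.1 _ hlt 1
    (by rw [allFixed_base]; simpa using h.2)
  rw [pow_one, ev_append, ev_reverse _ Fi23H.theModel.sq, inv_mul_eq_one] at h1
  exact h1.symm

/-- some base point is moved -/
noncomputable def movesBase (w : List ℕ) : Bool :=
  w.all (fun g => Nat.ble (g + 1) 10) && basePts.any fun i => !Nat.beq (Fi23H.data.run w i) i

theorem ev_ne_one {w : List ℕ} (h : movesBase w = true) : ev Fi23H.val w ≠ 1 := by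
  simp only [movesBase, Bool.and_eq_true, List.any_eq_true, Bool.not_eq_eq_eq_not, Bool.not_true] at h
  obtain ⟨hw, i, hi, hne⟩ := h
  intro he
  have hlt : ∀ g ∈ w, g < Fi23H.data.ng := fun g hg =>
    Nat.le_of_ble_eq_true (List.all_eq_true.mp hw g hg)
  have hin : i < Fi23H.data.n := by
    have : ∀ j ∈ basePts, j < Fi23H.data.n := by decide +kernel
    exact this i hi
  have h2 := congrArg (fun p : Equiv.Perm (Fin Fi23H.data.n) => ((p ⟨i, hin⟩ : Fin _) : ℕ))
    ((congrArg Fi23H.theModel.rho he).trans (map_one _))
  simp only [Fi23H.theModel.rho_ev, Fi23H.valid.perm_word w hlt, Equiv.Perm.one_apply] at h2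
  rw [h2] at hne
  simp at hne

theorem chk_sq : (List.range 11).all (fun i => sameOnBase (eW i ++ eW i) []) = true := by
  decide +kernel

theorem chk_comm : (List.range 11).all (fun i => (List.range i).all fun j =>
    sameOnBase (eW j ++ eW i) (eW i ++ eW j)) = true := by decide +kernel

theorem chk_indep : allFrom (fun v => movesBase (wordW eW 11 v)) 2047 1 = true := by
  decide +kernel

theorem chk_conj : (List.range 7).all (fun n => (List.range 11).all fun i =>
    decide (cR n i < 2 ^ 11) &&
      sameOnBase ((uW n).reverse ++ (eW i ++ uW n)) (wordW eW 11 (cR n i))) = true := by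
  decide +kernel

theorem chk_usq : (List.range 7).all (fun n =>
    decide ((sqD n).1 < 2 ^ 11) && decide ((sqD n).2 < 2 ^ n) &&
      sameOnBase (uW n ++ uW n) (wordW uW n (sqD n).2 ++ wordW eW 11 (sqD n).1)) = true := by
  decide +kernel

theorem chk_rel : (List.range 7).all (fun n => (List.range n).all fun l =>
    decide ((relD n l).1 < 2 ^ 11) && decide ((relD n l).2 < 2 ^ n) &&
      sameOnBase ((uW n).reverse ++ (uW l ++ uW n))
        (wordW uW n (relD n l).2 ++ wordW eW 11 (relD n l).1)) = true := by
  decide +kernel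

theorem chk_new : (List.range 7).all (fun n => (List.range (2 ^ n)).all fun k =>
    (List.range 11).any fun i => !(act cR 11 n k (2 ^ i) == cR n i)) = true := by
  decide +kernel

theorem chk_moves : family.all (fun E => movesOk cR 11 7 family E) = true := by decide +kernel

theorem chk_bound : family.all (fun E => boundOk cR 11 7 E) = true := by decide +kernel

theorem allRange {n : ℕ} {p : ℕ → Bool} (h : (List.range n).all p = true) {i : ℕ} (hi : i < n) :
    p i = true :=
  List.all_eq_true.mp h i (List.mem_range.mpr hi)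

/-- the extension in Fi23 -/
noncomputable def ext : Ext Fi23 where
  r := 11
  m := 7
  e i := ev Fi23H.val (eW i)
  u i := ev Fi23H.val (uW i)
  c := cR
  sqV n := (sqD n).1
  sqK n := (sqD n).2
  relV n l := (relD n l).1
  relK n l := (relD n l).2
  e_sq i hi := by
    have h := ev_eq_of (allRange chk_sq hi)
    rwa [ev_append] at h
  e_comm i hi j hj := by
    rcases lt_trichotomy i j with h | h | h
    · have := ev_eq_of (allRange (allRange chk_comm hj) h)
      rw [ev_append, ev_append] at this
      exact this.symm
    · rw [h]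
    · have := ev_eq_of (allRange (allRange chk_comm hi) h)
      rw [ev_append, ev_append] at this
      exact this
  e_indep v hv h := by
    by_contra hne
    have := allFrom_spec chk_indep v (Nat.pos_of_ne_zero hne) (by omega)
    refine ev_ne_one this ?_
    rw [ev_wordW]; exact h
  c_lt n hn i hi := by
    have := allRange (allRange chk_conj hn) hi
    simp only [Bool.and_eq_true, decide_eq_true_eq] at this
    exact this.1
  conj_e n hn i hi := by
    have := allRange (allRange chk_conj hn) hi
    simp only [Bool.and_eq_true, decide_eq_true_eq] at this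
    have h := ev_eq_of this.2
    rw [ev_append, ev_append, ev_reverse _ Fi23H.theModel.sq, ev_wordW] at h
    exact h
  sq_lt n hn := by
    have := allRange chk_usq hn
    simp only [Bool.and_eq_true, decide_eq_true_eq] at this
    exact this.1
  u_sq n hn := by
    have := allRange chk_usq hn
    simp only [Bool.and_eq_true, decide_eq_true_eq] at this
    have h := ev_eq_of this.2
    rw [ev_append, ev_append, ev_wordW, ev_wordW] at h
    exact h
  rel_lt n hn l hl := by
    have := allRange (allRange chk_rel hn) hl
    simp only [Bool.and_eq_true, decide_eq_true_eq] at this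
    exact this.1
  u_conj n hn l hl := by
    have := allRange (allRange chk_rel hn) hl
    simp only [Bool.and_eq_true, decide_eq_true_eq] at this
    have h := ev_eq_of this.2
    rw [ev_append, ev_append, ev_reverse _ Fi23H.theModel.sq, ev_append, ev_wordW, ev_wordW] at h
    exact h
  new n hn k hk := by
    have := allRange (allRange chk_new hn) hk
    simp only [List.any_eq_true, List.mem_range, Bool.not_eq_true', beq_eq_false_iff_ne] at this
    exact this

/-- In the constructed Sylow subgroup the bottom is the largest normal elementary abelian one. -/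
theorem ext_result :
    Nat.card ext.top = 2 ^ 18 ∧ ext.E ≤ ext.top ∧ (ext.E.subgroupOf ext.top).Normal ∧
    Cfsg.IsElementaryAbelian 2 ext.E ∧ Nat.card ext.E = 2 ^ 11 ∧
    ∀ A : Subgroup Fi23, A ≤ ext.top → (A.subgroupOf ext.top).Normal →
      Cfsg.IsElementaryAbelian 2 A →
      Nat.card A ≤ 2 ^ 11 ∧ (Nat.card A = 2 ^ 11 → A = ext.E) := by
  refine ⟨ext.card_K 7 le_rfl, ext.E_le_top, ⟨fun x hx g => ?_⟩, ⟨⟨⟨fun a b => ?_⟩⟩, ?_⟩,
    ext.card_E, fun A hle hn hA => ?_⟩
  · exact ext.E_normal g.2 hx
  · obtain ⟨v, _, ha⟩ := a.2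
    obtain ⟨w, _, hb⟩ := b.2
    apply Subtype.ext
    change (a : Fi23) * b = b * a
    rw [← ha, ← hb]; exact ext.el_comm v w
  · rintro a ⟨v, _, rfl⟩
    rw [pow_two]; exact ext.el_self v
  · have := hA.1
    refine Ext.card_le_of_normal hle (fun n hn' a ha => hn.conj_mem ⟨a, hle ha⟩ ha ⟨n, hn'⟩)
      (fun a ha b hb => congrArg Subtype.val (mul_comm' (⟨a, ha⟩ : A) ⟨b, hb⟩))
      (fun a ha => by have := hA.2 a ha; rwa [pow_two] at this) family
      (List.all_eq_true.mp chk_moves) (List.all_eq_true.mp chk_bound)
      ⟨entry0, List.mem_cons_self .., rfl⟩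

end Cfsg.Agent.H55.Fi23T
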