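import Cfsg.Prelude.Def_Transfer
import Cfsg.Agent.H55.Fi23T.Core

/-!
# Normal elementary abelian subgroups of an extension, from a certificate

The possible images in the quotient form a closed family of sets of normal forms; each of them
bounds the fixed part of the bottom.
-/

set_option autoImplicit false

namespace Cfsg.Agent.H55.Fi23T

open Cfsg.Agent.H16 (forceNat forceNat_eq)

/-- What happens to a set of the family joined with a normal form `x`. -/
inductive Move
  /-- `x` is not an involution -/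
  | notInv
  /-- `x` does not commute with the member `a` -/
  | notComm (a : ℕ)
  /-- `x` does not commute with its conjugate `y` by `g` -/
  | notConj (g y : ℕ)
  /-- the set `j` arises by the steps `(z, g, y, c)`: `c` is `z` times the conjugate `y` of `x` -/
  | grow (j : ℕ) (steps : List (ℕ × ℕ × ℕ × ℕ))

/-- One set of the family: its bit mask, some members with their rows, and the moves. -/
structure Entry where
  mask : ℕ
  gens : List (ℕ × List ℕ)
  moves : List Move

section Checks

variable (c : ℕ → ℕ → ℕ) (r m : ℕ)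

/-- equality of two composed actions on the basis -/
noncomputable def eqC (a b a' b' : ℕ) : Bool :=
  (List.range r).all fun i => forceNat (2 ^ i) fun x =>
    forceNat (act c r m b x) fun y => forceNat (act c r m b' x) fun z =>
      act c r m a y == act c r m a' z

/-- check of a step, giving the new mask -/
noncomputable def stepOk (x : ℕ) : List (ℕ × ℕ × ℕ × ℕ) → ℕ → ℕ → Bool
  | [], cur, goal => cur == goal
  | (z, g, y, w) :: rest, cur, goal =>
    cur.testBit z && decide (g < 2 ^ m) && decide (y < 2 ^ m) && decide (w < 2 ^ m) &&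
      eqC c r m g x y g && eqC c r m z y w 0 && forceNat (cur ||| 2 ^ w) fun cur' => stepOk x rest cur' goal

/-- check of a move -/
noncomputable def moveOk (L : List Entry) (M x : ℕ) : Move → Bool
  | .notInv => !eqC c r m x x 0 0
  | .notComm a => M.testBit a && !eqC c r m a x x a
  | .notConj g y => decide (g < 2 ^ m) && decide (y < 2 ^ m) && eqC c r m g x y g && !eqC c r m x y y x
  | .grow j steps =>
    decide (j < L.length) && stepOk c r m x steps M (L.getD j ⟨0, [], []⟩).mask &&
      (L.getD j ⟨0, [], []⟩).mask.testBit x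

/-- check of the moves of an entry -/
noncomputable def movesOk (L : List Entry) (E : Entry) : Bool :=
  (List.range (2 ^ m)).all fun x => E.mask.testBit x || moveOk c r m L E.mask x (E.moves.getD x .notInv)

/-- the vectors fixed by the given members -/
noncomputable def fixed (E : Entry) : List ℕ :=
  (List.range (2 ^ r)).filter fun v => E.gens.all fun g => appM (fun i => g.2.getD i 0) r v == v

/-- check of the bound of an entry -/
noncomputable def boundOk (E : Entry) : Bool :=
  (E.gens.all fun g => E.mask.testBit g.1 &&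
    (List.range r).all fun i => act c r m g.1 (2 ^ i) == g.2.getD i 0) &&
  decide (((List.range (2 ^ m)).filter fun k => E.mask.testBit k).length * (fixed r E).length ≤ 2 ^ r) &&
  (E.mask == 1 ||
    decide (((List.range (2 ^ m)).filter fun k => E.mask.testBit k).length * (fixed r E).length < 2 ^ r))

end Checks

theorem act_zero (c : ℕ → ℕ → ℕ) (r : ℕ) : ∀ n w, act c r n 0 w = w
  | 0, _ => rfl
  | n + 1, w => by simp [act, act_zero c r n]

namespace Ext

variable {G : Type*} [Group G] (D : Ext G)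

theorem Over.mul {g h : G} {a b : ℕ} (hg : D.Over g a) (hh : D.Over h b) {i : ℕ} (hi : i < D.r) :
    g * h * D.e i * (g * h)⁻¹ = D.el (D.ρ a (D.ρ b (2 ^ i))) := by
  rw [show g * h * D.e i * (g * h)⁻¹ = g * (h * D.e i * h⁻¹) * g⁻¹ by group, hh i hi]
  exact hg.el D (D.act_lt D.m le_rfl b _ (Nat.pow_lt_pow_right (by omega) hi))

theorem over_nf {k : ℕ} : D.Over (prodW D.u D.m k) k := fun i hi => by
  rw [← D.el_two_pow hi]; exact D.prodW_el D.m le_rfl k _

theorem nf_mem_top {k : ℕ} (hk : k < 2 ^ D.m) : prodW D.u D.m k ∈ D.top :=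
  (D.mem_K _).mpr ⟨0, by positivity, k, hk, by simp [nf, el_zero]⟩

theorem eqC_spec {a b a' b' i : ℕ} (h : eqC D.c D.r D.m a b a' b' = true) (hi : i < D.r) :
    D.ρ a (D.ρ b (2 ^ i)) = D.ρ a' (D.ρ b' (2 ^ i)) :=
  beq_iff_eq.mp (by simpa only [forceNat_eq] using List.all_eq_true.mp h i (List.mem_range.mpr hi))

theorem eqC_of {g h g' h' : G} {a b a' b' : ℕ} (hg : D.Over g a) (hh : D.Over h b)
    (hg' : D.Over g' a') (hh' : D.Over h' b') (he : g * h = g' * h') :
    eqC D.c D.r D.m a b a' b' = true := by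
  refine List.all_eq_true.mpr fun i hi => ?_
  simp only [forceNat_eq, beq_iff_eq]
  have hi' := List.mem_range.mp hi
  have lt : ∀ k w, w < 2 ^ D.r → D.ρ k w < 2 ^ D.r := D.act_lt D.m le_rfl
  have h2 := Nat.pow_lt_pow_right (show 1 < 2 by omega) hi'
  refine D.el_inj (lt _ _ (lt _ _ h2)) (lt _ _ (lt _ _ h2)) ?_
  rw [← hg.mul D hh hi', ← hg'.mul D hh' hi', he]

theorem over_one : D.Over (1 : G) 0 := fun i hi => by
  simp [ρ, act_zero, D.el_two_pow hi]

/-- If `n g` and `h n` act alike then `n g n⁻¹` acts as `h`. -/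
theorem over_conj {n g h : G} {j x y : ℕ} (hn : D.Over n j) (hg : D.Over g x) (hh : D.Over h y)
    (hnt : n ∈ D.top) (he : eqC D.c D.r D.m j x y j = true) : D.Over (n * g * n⁻¹) y := by
  intro i hi
  obtain ⟨w, hw, hw'⟩ := D.E_normal (inv_mem hnt) (D.e_mem hi)
  rw [inv_inv] at hw'
  have h1 : ∀ l < D.r, n * g * D.e l * (n * g)⁻¹ = D.el (D.ρ j (D.ρ x (2 ^ l))) := fun l hl =>
    hn.mul D hg hl
  have h2 : ∀ l < D.r, h * n * D.e l * (h * n)⁻¹ = D.el (D.ρ j (D.ρ x (2 ^ l))) := fun l hl => by
    rw [hh.mul D hn hl, D.eqC_spec he hl]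
  have h3 := (D.conj_el h1 D.r le_rfl w).trans (D.conj_el h2 D.r le_rfl w).symm
  change n * g * D.el w * (n * g)⁻¹ = h * n * D.el w * (h * n)⁻¹ at h3
  rw [← hh i hi, show n * g * n⁻¹ * D.e i * (n * g * n⁻¹)⁻¹
      = n * g * (n⁻¹ * D.e i * n) * (n * g)⁻¹ by group, ← hw', h3, hw']
  group

variable {D} {A : Subgroup G}

theorem steps_mem (hle : A ≤ D.top) (hconj : ∀ n ∈ D.top, ∀ a ∈ A, n * a * n⁻¹ ∈ A)
    {x : ℕ} (hx : ∃ g ∈ A, D.Over g x) : ∀ (steps : List (ℕ × ℕ × ℕ × ℕ)) (cur goal : ℕ),
    (∀ k, cur.testBit k = true → k < 2 ^ D.m ∧ ∃ g ∈ A, D.Over g k) →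
    stepOk D.c D.r D.m x steps cur goal = true →
    (∀ k, goal.testBit k = true → k < 2 ^ D.m ∧ ∃ g ∈ A, D.Over g k) ∧
      (∀ k, cur.testBit k = true → goal.testBit k = true)
  | [], cur, goal, hcur, h => by
    obtain rfl := beq_iff_eq.mp (show (cur == goal) = true from h)
    exact ⟨hcur, fun _ hk => hk⟩
  | (z, j, y, w) :: rest, cur, goal, hcur, h => by
    simp only [stepOk, forceNat_eq, Bool.and_eq_true, decide_eq_true_eq] at h
    obtain ⟨⟨⟨⟨⟨⟨hz, hj⟩, hy⟩, hw⟩, he1⟩, he2⟩, hrest⟩ := h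
    obtain ⟨g, hgA, hg⟩ := hx
    obtain ⟨-, gz, hgzA, hgz⟩ := hcur z hz
    have hgy := D.over_conj D.over_nf hg D.over_nf (D.nf_mem_top hj) he1 (y := y)
    have hnew : D.Over (gz * (prodW D.u D.m j * g * (prodW D.u D.m j)⁻¹)) w := fun i hi => by
      rw [hgz.mul D hgy hi, D.eqC_spec he2 hi, show D.ρ 0 (2 ^ i) = 2 ^ i from act_zero _ _ _ _]
    have hA := A.mul_mem hgzA (hconj _ (D.nf_mem_top hj) g hgA)
    obtain ⟨h1, h2⟩ := steps_mem hle hconj ⟨g, hgA, hg⟩ rest _ goal (fun k hk => by
      rw [Nat.testBit_or, Bool.or_eq_true] at hk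
      rcases hk with hk | hk
      · exact hcur k hk
      · rw [Nat.testBit_two_pow, decide_eq_true_eq] at hk
        subst hk
        exact ⟨hw, _, hA, hnew⟩) hrest
    exact ⟨h1, fun k hk => h2 k (by simp [hk])⟩

/-- The image of a normal elementary abelian subgroup is in the family. -/
theorem exists_entry (hle : A ≤ D.top) (hconj : ∀ n ∈ D.top, ∀ a ∈ A, n * a * n⁻¹ ∈ A)
    (hab : ∀ a ∈ A, ∀ b ∈ A, a * b = b * a) (hexp : ∀ a ∈ A, a * a = 1)
    (L : List Entry) (hL : ∀ E ∈ L, movesOk D.c D.r D.m L E = true)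
    (hfirst : ∃ E ∈ L, E.mask = 1) :
    ∃ E ∈ L, (∀ k, E.mask.testBit k = true → k < 2 ^ D.m ∧ ∃ g ∈ A, D.Over g k) ∧
      ∀ k < 2 ^ D.m, (∃ g ∈ A, D.Over g k) → E.mask.testBit k = true := by
  classical
  suffices key : ∀ N, ∀ E ∈ L, (∀ k, E.mask.testBit k = true → k < 2 ^ D.m ∧ ∃ g ∈ A, D.Over g k) →
      ((Finset.range (2 ^ D.m)).filter fun k => E.mask.testBit k = false ∧
        ∃ g ∈ A, D.Over g k).card ≤ N →
      ∃ E ∈ L, (∀ k, E.mask.testBit k = true → k < 2 ^ D.m ∧ ∃ g ∈ A, D.Over g k) ∧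
        ∀ k < 2 ^ D.m, (∃ g ∈ A, D.Over g k) → E.mask.testBit k = true by
    obtain ⟨E, hE, hm⟩ := hfirst
    refine key _ E hE (fun k hk => ?_) le_rfl
    rw [hm, Nat.testBit_one_eq_true_iff_self_eq_zero] at hk
    subst hk
    exact ⟨by positivity, 1, A.one_mem, D.over_one⟩
  intro N
  induction N with
  | zero =>
    intro E hE h1 h2
    refine ⟨E, hE, h1, fun k hk hg => ?_⟩
    by_contra hne
    rw [Nat.le_zero, Finset.card_eq_zero, Finset.filter_eq_empty_iff] at h2
    exact h2 (Finset.mem_range.mpr hk) ⟨Bool.not_eq_true _ ▸ hne, hg⟩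
  | succ N ih =>
    intro E hE h1 h2
    by_cases hall : ∀ k < 2 ^ D.m, (∃ g ∈ A, D.Over g k) → E.mask.testBit k = true
    · exact ⟨E, hE, h1, hall⟩
    push_neg at hall
    obtain ⟨x, hx, ⟨g, hgA, hg⟩, hxm⟩ := hall
    have hmv := List.all_eq_true.mp (hL E hE) x (List.mem_range.mpr hx)
    simp only [Bool.or_eq_true, hxm, Bool.false_eq_true, false_or] at hmv
    generalize E.moves.getD x .notInv = mv at hmv
    cases mv with
    | notInv =>
      exfalso
      have := D.eqC_of hg hg D.over_one D.over_one (by rw [hexp g hgA, one_mul])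
      simp [moveOk, this] at hmv
    | notComm a =>
      exfalso
      simp only [moveOk, Bool.and_eq_true] at hmv
      obtain ⟨-, b, hbA, hb⟩ := h1 a hmv.1
      simp [D.eqC_of hb hg hg hb (hab b hbA g hgA)] at hmv
    | notConj j y =>
      exfalso
      simp only [moveOk, Bool.and_eq_true, decide_eq_true_eq] at hmv
      obtain ⟨⟨⟨hj, hy⟩, he⟩, hne⟩ := hmv
      have hgy := D.over_conj D.over_nf hg D.over_nf (D.nf_mem_top hj) he (y := y)
      simp [D.eqC_of hg hgy hgy hg (hab g hgA _ (hconj _ (D.nf_mem_top hj) g hgA))] at hne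
    | grow j steps =>
      simp only [moveOk, Bool.and_eq_true, decide_eq_true_eq] at hmv
      obtain ⟨⟨hj, hst⟩, hxin⟩ := hmv
      obtain ⟨h3, h4⟩ := steps_mem hle hconj ⟨g, hgA, hg⟩ steps _ _ h1 hst
      refine ih (L.getD j ⟨0, [], []⟩) ?_ h3 ?_
      · rw [List.getD_eq_getElem _ _ hj]; exact List.getElem_mem hj
      · have hlt := Finset.card_lt_card (s := (Finset.range (2 ^ D.m)).filter fun k =>
            (L.getD j ⟨0, [], []⟩).mask.testBit k = false ∧ ∃ g ∈ A, D.Over g k)
          (t := (Finset.range (2 ^ D.m)).filter fun k => E.mask.testBit k = false ∧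
            ∃ g ∈ A, D.Over g k) (Finset.ssubset_iff_subset_ne.mpr ⟨fun k hk => by
              simp only [Finset.mem_filter] at hk ⊢
              refine ⟨hk.1, Bool.eq_false_iff.mpr fun h => ?_, hk.2.2⟩
              rw [h4 k h] at hk
              exact Bool.noConfusion hk.2.1, fun heq => by
              have : x ∈ (Finset.range (2 ^ D.m)).filter fun k => E.mask.testBit k = false ∧
                  ∃ g ∈ A, D.Over g k :=
                Finset.mem_filter.mpr ⟨Finset.mem_range.mpr hx, Bool.not_eq_true _ ▸ hxm, g, hgA, hg⟩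
              rw [← heq, Finset.mem_filter, hxin] at this
              exact Bool.noConfusion this.2.1⟩)
        omega

/-- A normal elementary abelian subgroup of the extension is no larger than its bottom, and only
the bottom attains the bound. -/
theorem card_le_of_normal [Finite G] (hle : A ≤ D.top)
    (hconj : ∀ n ∈ D.top, ∀ a ∈ A, n * a * n⁻¹ ∈ A)
    (hab : ∀ a ∈ A, ∀ b ∈ A, a * b = b * a) (hexp : ∀ a ∈ A, a * a = 1)
    (L : List Entry) (hL : ∀ E ∈ L, movesOk D.c D.r D.m L E = true)
    (hB : ∀ E ∈ L, boundOk D.c D.r D.m E = true) (hfirst : ∃ E ∈ L, E.mask = 1) :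
    Nat.card A ≤ 2 ^ D.r ∧ (Nat.card A = 2 ^ D.r → A = D.E) := by
  classical
  obtain ⟨E, hE, h1, h2⟩ := exists_entry hle hconj hab hexp L hL hfirst
  have hb := hB E hE
  simp only [boundOk, Bool.and_eq_true, Bool.or_eq_true, beq_iff_eq, decide_eq_true_eq] at hb
  obtain ⟨⟨hgens, hcount⟩, hstrict⟩ := hb
  have hk : ∀ a : A, ∃ k, k ∈ ((List.range (2 ^ D.m)).filter fun k => E.mask.testBit k).toFinset ∧
      D.Over (a : G) k := by
    intro a
    obtain ⟨k, hk, ho⟩ := D.exists_over (hle a.2)
    exact ⟨k, by simpa [hk] using h2 k hk ⟨a, a.2, ho⟩, ho⟩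
  choose kOf hkmem hkover using hk
  let rep : ℕ → A := fun k => if h : ∃ a : A, kOf a = k then h.choose else 1
  have hrep : ∀ a, kOf (rep (kOf a)) = kOf a := by
    intro a
    have h : ∃ b : A, kOf b = kOf a := ⟨a, rfl⟩
    simp only [rep, dif_pos h]
    exact h.choose_spec
  have hv : ∀ a : A, ∃ v, v ∈ (fixed D.r E).toFinset ∧ D.el v = ((rep (kOf a))⁻¹ * a : A) := by
    intro a
    have hor : D.Over (rep (kOf a) : G) (kOf a) := by
      have h := hkover (rep (kOf a))
      generalize hb : rep (kOf a) = b at h ⊢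
      rwa [show kOf b = kOf a by rw [← hb, hrep]] at h
    obtain ⟨v, hv, hvel⟩ := Over.mem_E D (hle a.2) (hle (rep (kOf a)).2) (hkover a) hor
    refine ⟨v, ?_, by simpa using hvel⟩
    rw [List.mem_toFinset, fixed, List.mem_filter, List.mem_range, List.all_eq_true]
    refine ⟨hv, fun p hp => beq_iff_eq.mpr ?_⟩
    have hg := List.all_eq_true.mp hgens p hp
    simp only [Bool.and_eq_true, List.all_eq_true, List.mem_range, beq_iff_eq] at hg
    obtain ⟨-, b, hbA, hb⟩ := h1 p.1 hg.1
    have hrows : ∀ i < D.r, b * D.e i * b⁻¹ = D.el (p.2.getD i 0) := fun i hi => by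
      rw [hb i hi]; exact congrArg D.el (hg.2 i hi)
    have hlt : appM (fun i => p.2.getD i 0) D.r v < 2 ^ D.r :=
      appM_lt _ (fun i hi => (hg.2 i hi) ▸
        D.act_lt D.m le_rfl _ _ (Nat.pow_lt_pow_right (by omega) hi)) v
    refine D.el_inj hlt hv ?_
    rw [← D.conj_el hrows D.r le_rfl v, ← show D.el v = prodW D.e D.r v from rfl]
    have hvA : D.el v ∈ A := by
      rw [hvel]; exact A.mul_mem (A.inv_mem (rep (kOf a)).2) a.2
    rw [hab b hbA _ hvA, mul_inv_cancel_right]
  choose vOf hvmem hvel using hv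
  let f : A → ((List.range (2 ^ D.m)).filter fun k => E.mask.testBit k).toFinset ×
      (fixed D.r E).toFinset := fun a => (⟨kOf a, hkmem a⟩, ⟨vOf a, hvmem a⟩)
  have hf : Function.Injective f := by
    intro a b h
    simp only [f, Prod.mk.injEq, Subtype.mk.injEq] at h
    have e := (hvel a).symm.trans ((congrArg D.el h.2).trans (hvel b))
    rw [h.1] at e
    exact Subtype.ext (by simpa using e)
  have hcard : Nat.card A ≤ ((List.range (2 ^ D.m)).filter fun k => E.mask.testBit k).length *
      (fixed D.r E).length := by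
    refine (Nat.card_le_card_of_injective f hf).trans ?_
    rw [Nat.card_prod, Nat.card_eq_fintype_card, Nat.card_eq_fintype_card, Fintype.card_coe,
      Fintype.card_coe]
    exact Nat.mul_le_mul (List.toFinset_card_le _) (List.toFinset_card_le _)
  refine ⟨hcard.trans hcount, fun heq => ?_⟩
  rcases hstrict with hm | hlt
  · have hAE : A ≤ D.E := by
      intro a ha
      refine Over.zero_mem D (hle ha) fun i hi => ?_
      have := hkmem ⟨a, ha⟩
      rw [List.mem_toFinset, List.mem_filter, hm, Nat.testBit_one_eq_true_iff_self_eq_zero] at this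
      have ho := hkover ⟨a, ha⟩
      rw [this.2] at ho
      rw [ho i hi, ρ, act_zero, D.el_two_pow hi]
    exact Subgroup.eq_of_le_of_card_ge hAE (by rw [D.card_E, heq])
  · omega

end Ext

end Cfsg.Agent.H55.Fi23T
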